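import Cfsg.Agent.H671.H5Facts
import Mathlib.Data.Nat.PrimeFin

/-!
# 3-regular degree graphs (S4919): the facts on simple groups (helper670)

* `Kite S` : the degree graph of `S` contains two triangles with a common edge, or a vertex with four neighbours;
* `Hit A S` : above an irreducible character of a normal subgroup with quotient `S` some ratio of degrees is divisible by
  a member of `A`;
* `OutHit A S` : the same for outer primes;
* `Paw S` : a triangle `a, b, c` with `a` joined to `r` such that `Hit {a, b}`, `OutHit {a, b}`;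
* `FactKiteBig`, `FactKiteFour` : simple groups with five or six, with four prime divisors;
* `FactOdd`, `FactEven` : ratios of degrees above `PSL(2, q)`.
-/

set_option autoImplicit false

namespace Cfsg.Agent.H670.Reg

open Cfsg Cfsg.Agent.H671.H5

universe u v

/-- Two triangles with a common edge, or a vertex with four neighbours. -/
def Kite (S : Type v) [Group S] : Prop :=
  (∃ u v w z : ℕ, w ≠ z ∧ Adj u v S ∧ Adj u w S ∧ Adj v w S ∧ Adj u z S ∧ Adj v z S) ∨
  (∃ u a b c d : ℕ, a ≠ b ∧ a ≠ c ∧ a ≠ d ∧ b ≠ c ∧ b ≠ d ∧ c ≠ d ∧ Adj u a S ∧ Adj u b S ∧ Adj u c S ∧ Adj u d S)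

/-- Over every irreducible character `θ` of a normal subgroup `M` of `X` with `X / M ≅ S` there is an irreducible
character `χ` of `X` such that `χ(1) / θ(1)` is divisible by a member of `A`. -/
def Hit (A : Set ℕ) (S : Type v) [Group S] : Prop :=
  ∀ (X : Type u) [Group X] [Finite X] (M : Subgroup X) [M.Normal] [Fintype M], Nonempty (X ⧸ M ≃* S) →
    ∀ θ : IrrCharacter M, ∃ χ : IrrCharacter X,
      classInner (fun m : M => (χ : X → ℂ) m) (θ : M → ℂ) ≠ 0 ∧
      ∃ d p : ℕ, p ∈ A ∧ p ∣ d ∧ charDegree (χ : X → ℂ) = d * charDegree (θ : M → ℂ)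

/-- Outer primes (not dividing `|S|`). -/
def OutHit (A : Set ℕ) (S : Type v) [Group S] : Prop :=
  ∀ (Γ : Type u) [Group Γ] [Finite Γ] (N : Subgroup Γ) [N.Normal], Nonempty (N ≃* S) →
    Subgroup.centralizer (N : Set Γ) = ⊥ → ∀ t : ℕ, t.Prime → t ∣ N.index → ¬ t ∣ Nat.card S →
      ∃ p ∈ A, ∃ d ∈ charDegrees Γ, t * p ∣ d

/-- The degree graph contains a triangle `a, b, c` with `a` joined to `r`, and no irreducible character below `S` has only
ratios prime to `a` and `b`. -/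
def Paw (S : Type v) [Group S] : Prop :=
  ∃ a b c r : ℕ, a ≠ r ∧ b ≠ r ∧ c ≠ r ∧ Adj a b S ∧ Adj a c S ∧ Adj b c S ∧ Adj a r S ∧
    Hit.{u, v} {a, b} S ∧ OutHit.{u, v} {a, b} S

/-- Five or six prime divisors. -/
def FactKiteBig : Prop := ∀ (S : Type v) [Group S] [Finite S] [IsSimpleGroup S], ¬ IsMulCommutative S →
  ¬ IsL2 S → 5 ≤ (Nat.card S).primeFactors.card → (Nat.card S).primeFactors.card ≤ 6 → Kite S

/-- Four prime divisors. -/
def FactKiteFour : Prop := ∀ (S : Type v) [Group S] [Finite S] [IsSimpleGroup S], ¬ IsMulCommutative S →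
  ¬ IsL2 S → (Nat.card S).primeFactors.card = 4 → Kite S ∨ Paw.{u, v} S

/-- `X / M ≅ PSL(2, q)`, `q ≥ 7` odd: some ratio is even, or some ratio is divisible by all odd primes dividing
`|PSL(2, q)|`. -/
def FactOdd : Prop := ∀ (X : Type u) [Group X] [Finite X] (M : Subgroup X) [M.Normal] [Fintype M] (F : Type) [Field F]
  [Fintype F], Odd (Fintype.card F) → 7 ≤ Fintype.card F → ∀ _ : X ⧸ M ≃* Matrix.ProjectiveSpecialLinearGroup (Fin 2) F,
  ∀ θ : IrrCharacter M, ∃ χ : IrrCharacter X, classInner (fun m : M => (χ : X → ℂ) m) (θ : M → ℂ) ≠ 0 ∧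
    ∃ d : ℕ, charDegree (χ : X → ℂ) = d * charDegree (θ : M → ℂ) ∧
      (2 ∣ d ∨ ∀ p : ℕ, p.Prime → p ≠ 2 → p ∣ Nat.card (Matrix.ProjectiveSpecialLinearGroup (Fin 2) F) → p ∣ d)

/-- `X / M ≅ PSL(2, q)`, `q ≥ 16` even: the character extends, or some ratio is divisible by `q ^ 2 - 1`, `2 (q + 1)`,
`2 (q - 1)` or by two and a prime of each of `q - 1`, `q + 1`. -/
def FactEven : Prop := ∀ (X : Type u) [Group X] [Finite X] (M : Subgroup X) [M.Normal] [Fintype M] (F : Type) [Field F]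
  [Fintype F], Even (Fintype.card F) → 16 ≤ Fintype.card F →
  ∀ _ : X ⧸ M ≃* Matrix.ProjectiveSpecialLinearGroup (Fin 2) F,
  ∀ θ : IrrCharacter M, (∃ χ : IrrCharacter X, ∀ m : M, (χ : X → ℂ) m = (θ : M → ℂ) m) ∨
    ∃ χ : IrrCharacter X, classInner (fun m : M => (χ : X → ℂ) m) (θ : M → ℂ) ≠ 0 ∧
    ∃ d : ℕ, charDegree (χ : X → ℂ) = d * charDegree (θ : M → ℂ) ∧
      (Fintype.card F ^ 2 - 1 ∣ d ∨ 2 * (Fintype.card F + 1) ∣ d ∨ 2 * (Fintype.card F - 1) ∣ d ∨
        ∃ a b : ℕ, a.Prime ∧ b.Prime ∧ a ∣ Fintype.card F - 1 ∧ b ∣ Fintype.card F + 1 ∧ 2 * a * b ∣ d)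

end Cfsg.Agent.H670.Reg
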