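import Cfsg.Agent.H670.Reg.Four
import Cfsg.Agent.H296.KF.Kites
import Cfsg.Agent.H730.Hit.RowM11
import Cfsg.Agent.H730.Hit.RowL34
import Cfsg.Agent.H404.SzPaw.Main

/-!
# 3-regular degree graphs (S4919): `FactKiteFour` from the row of the Tits group (helper670)
-/

set_option autoImplicit false

namespace Cfsg.Agent.H670.Reg

open Cfsg Cfsg.Agent.OrdDiv Cfsg.Agent.H436

universe u v

theorem notComm_of_four {S : Type v} [Group S] [Finite S] [IsSimpleGroup S] (h4 : (Nat.card S).primeFactors.card = 4) :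
    ¬ IsMulCommutative S := by
  intro h
  let iC : CommGroup S := { (inferInstance : Group S) with mul_comm := h.is_comm.comm }
  have h11 : (Nat.card S).Prime := @IsSimpleGroup.prime_card S iC inferInstance
  rw [h11.primeFactors, Finset.card_singleton] at h4
  omega

theorem rows4 (ht : ∀ (S : Type v) [Group S] [Finite S] [IsSimpleGroup S], Lie.IsoTits S → Kite S) : Rows4.{u, v} where
  g23 := fun _ _ _ _ h => H296.KF.kite_g2 h
  d42 := fun _ _ _ _ h => H296.KF.kite_td4 h
  tits := fun S _ _ _ h => ht S h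
  m11 := fun _ _ _ _ h => H730.Hit.paw_m11 h
  l34 := fun _ _ _ _ h => by
    obtain ⟨F, _, _, hF, ⟨e⟩⟩ := h
    exact H730.Hit.paw_l34 hF e
  sz := fun S _ _ _ q h h4 => by
    obtain ⟨F, _, _, m, hm, hF, hq, ⟨e⟩⟩ := h
    exact H404.SzPaw.paw_sz (notComm_of_four h4) hm (hF.trans hq) e h4

end Cfsg.Agent.H670.Reg
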