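import Cfsg.Agent.H670.Reg.Main
import Cfsg.Agent.H670.Reg.Rows
import Cfsg.Agent.H40.Kite.Big
import Cfsg.Agent.H671.FactRows
import Cfsg.Agent.H33.IMRest
import Cfsg.Agent.S0205

/-!
# 3-regular degree graphs (S4919): the assembly (helper670)
-/

set_option autoImplicit false

namespace Cfsg.Agent.H670.Reg

open Cfsg Cfsg.Agent.H436 Cfsg.Agent.H671.H5

universe u

/-- **S4919** from the classification and the facts of TEAM DEG. -/
theorem final (hK : ∀ (X : Type) [Group X] [Finite X] [IsSimpleGroup X], IsKnownSimple' X)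
    (hN : ∀ (S : Type) [Group S] [Finite S] [IsSimpleGroup S], ¬ IsMulCommutative S → ∃ g, IsNamed g S)
    (tri : FactTri.{0}) (ind : FactInd.{0}) (conn : FactConn.{0})
    (hs : ∀ (S : Type) [Group S] [Finite S] [IsSimpleGroup S], IsSporadicGroup S →
      5 ≤ (Nat.card S).primeFactors.card → (Nat.card S).primeFactors.card ≤ 6 → Kite S)
    (ht : ∀ (S : Type) [Group S] [Finite S] [IsSimpleGroup S], Lie.IsoTits S → Kite S)
    (hOdd : FactOdd.{u}) {G : Type u} [Group G] [Finite G]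
    (hne : (Cfsg.degreePrimes G).Nonempty) :
    (∀ p ∈ Cfsg.degreePrimes G, Set.ncard {q : ℕ | (Cfsg.degreeGraph G).Adj p q} = 3) ↔
      (Set.ncard (Cfsg.degreePrimes G) = 4 ∧
        ∀ p ∈ Cfsg.degreePrimes G, ∀ q ∈ Cfsg.degreePrimes G, p ≠ q → (Cfsg.degreeGraph G).Adj p q) := by
  refine main (G := G) ⟨?_, H671.FactRows.factExt hK, H33.imFact hK, tri, ind, conn,
    Cfsg.Agent.H40.KiteG.kiteBig hK hs, kiteFour (rows4 ht) hN⟩ hOdd hne
  intro S _ _ _ hna
  by_contra h2
  have h3 : Odd (Nat.card S) := Nat.not_even_iff_odd.1 fun h => h2 (even_iff_two_dvd.1 h)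
  have h4 : Group.IsSolvable S := S0205.result h3
  exact simple_nonsolv hna h4

end Cfsg.Agent.H670.Reg
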