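import Cfsg.Agent.H670.Reg.Red2
import Cfsg.Agent.H671.GraphRest
import Cfsg.Agent.H678.DG.Mathieu
import Cfsg.Agent.H678.DG.Rows
import Cfsg.Agent.H678.DG.He
import Cfsg.Agent.H678.DG.HS
import Cfsg.Agent.H678.DG.McL
import Cfsg.Agent.H678.DG.Tits
import Cfsg.Agent.H678.DG.FiDeg
import Cfsg.Agent.H653.Spor.Mathieu
import Cfsg.Agent.H653.Spor.J1
import Cfsg.Agent.H653.Spor.J3
import Cfsg.Agent.H653.Spor.Fi22
import Cfsg.Agent.H653.Spor.Ru
import Cfsg.Agent.H492.FactsHN
import Cfsg.Agent.H492.FactsON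
import Cfsg.Agent.H492.FactsTh
import Cfsg.Agent.H492.IMJ4
import Cfsg.Agent.H843.IMC.GraphCo
import Cfsg.Agent.H843.IMC.RowsB
import Cfsg.Agent.H653.Spor.Fi24
import Cfsg.Agent.H843.IMC.RowsC
import Cfsg.Agent.H653.Spor.Ly
import Cfsg.Agent.H995.IMBRow
import Cfsg.Agent.H816.IMM
import Cfsg.Agent.H477.HC.SpSix
import Cfsg.Agent.H30.GraphFi24A

/-!
# 3-regular degree graphs (S4919): the rows `Ru` and `Fi24'` (helper670)

* `four_ru`, `four_fi24` : a vertex with four neighbours;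
* `ind_or` : a simple group, not a `PSL(2,F)`, has a vertex with four neighbours, or two of any three vertices are
  adjacent.
-/

set_option autoImplicit false

namespace Cfsg.Agent.H670.Reg

open Cfsg Cfsg.Agent.H671.H5 Cfsg.Agent.H671.GraphAsm

universe u v

theorem FourN.congr {S : Type u} [Group S] {T : Type v} [Group T] (e : S ≃* T) (h : FourN T) : FourN S := by
  obtain ⟨x, a, b, c, d, h1, h2, h3, h4, h5, h6, k1, k2, k3, k4⟩ := h
  have key : ∀ {p q : ℕ}, Adj p q T → Adj p q S := by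
    intro p q h
    obtain ⟨h5, h6, h7, h8⟩ := Cfsg.Agent.H988.DG.adj_iff.1 h
    exact Cfsg.Agent.H988.DG.adj_iff.2 ⟨h5, h6, h7, (H33.IM.congr e).2 h8⟩
  exact ⟨x, a, b, c, d, h1, h2, h3, h4, h5, h6, key k1, key k2, key k3, key k4⟩

theorem adj_of_im {S : Type u} [Group S] {n p q : ℕ} (h : H33.IM n S) (hp : p.Prime) (hq : q.Prime) (hpq : p ≠ q)
    (h1 : p ∣ n) (h2 : q ∣ n) : Adj p q S := by
  refine Cfsg.Agent.H988.DG.adj_iff.2 ⟨hpq, hp, hq, ?_⟩
  obtain ⟨χ, hχ⟩ := h
  exact ⟨χ, (Nat.Coprime.mul_dvd_of_dvd_of_dvd ((Nat.coprime_primes hp hq).2 hpq) h1 h2).trans hχ⟩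

theorem four_ru {S : Type u} [Group S] (h : Spor.IsoRu S) : FourN S := by
  obtain ⟨e⟩ := h
  obtain ⟨h1, h2⟩ := H653.Spor.Ru.im_degs
  refine FourN.congr (e.trans RuLat.Main.equiv) ⟨3, 2, 7, 13, 29, by norm_num, by norm_num, by norm_num, by norm_num,
    by norm_num, by norm_num, ?_, ?_, ?_, ?_⟩
  · exact adj_of_im h2 (by norm_num) (by norm_num) (by norm_num) (by norm_num) (by norm_num)
  · exact adj_of_im h2 (by norm_num) (by norm_num) (by norm_num) (by norm_num) (by norm_num)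
  · exact adj_of_im h2 (by norm_num) (by norm_num) (by norm_num) (by norm_num) (by norm_num)
  · exact adj_of_im h1 (by norm_num) (by norm_num) (by norm_num) (by norm_num) (by norm_num)

theorem four_fi24 {S : Type u} [Group S] (h : Spor.IsoFi24' S) : FourN S := by
  obtain ⟨e⟩ := h
  obtain ⟨-, ⟨χ, hχ⟩⟩ := H30.GraphFi24.exists_deg
  have h2 : H33.IM 249458 Spor.Fi24' := ⟨χ, by rw [hχ]⟩
  refine FourN.congr e ⟨17, 2, 11, 23, 29, by norm_num, by norm_num, by norm_num, by norm_num,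
    by norm_num, by norm_num, ?_, ?_, ?_, ?_⟩
  all_goals exact adj_of_im h2 (by norm_num) (by norm_num) (by norm_num) (by norm_num) (by norm_num)

/-- The sporadic groups: a vertex with four neighbours, or two of any three vertices are adjacent. -/
theorem spor_ind (hK0 : KnownAll.{0}) {S : Type u} [Group S] [Finite S] (h : IsSporadicGroup S) : FourN S ∨
      ∀ p ∈ degreePrimes S, ∀ q ∈ degreePrimes S, ∀ r ∈ degreePrimes S,
        p ≠ q → q ≠ r → p ≠ r → Adj p q S ∨ Adj q r S ∨ Adj p r S := by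
  rcases h with h | h | h | h | h | h | h | h | h | h | h | h | h | h | h | h | h | h | h | h | h | h | h | h | h | h
  · exact Or.inr (H678.DG.Mathieu.facts_m11 h).ind
  · exact Or.inr (H678.DG.Mathieu.facts_m12 h).ind
  · exact Or.inr (H653.Spor.Mathieu.facts_m22 h).ind
  · exact Or.inr (H653.Spor.Mathieu.facts_m23 h).ind
  · exact Or.inr (H653.Spor.Mathieu.facts_m24 h).ind
  · exact Or.inr (H653.Spor.J1.facts S h).ind
  · exact Or.inr (H678.DG.Rows.facts_j2 h).ind
  · exact Or.inr (H653.Spor.J3.facts S h).ind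
  · exact Or.inr (H492.IMJ4.facts_j4 h).ind
  · exact Or.inr (H843.IMC.Rows.facts_co1 h).ind
  · exact Or.inr (H843.IMC.Rows.facts_co2 h).ind
  · exact Or.inr (H843.IMC.Rows.facts_co3 h).ind
  · exact Or.inr (H678.DG.McL.facts_mcl h).ind
  · exact Or.inr (H678.DG.HS.facts_hs h).ind
  · exact Or.inr (H678.DG.Rows.facts_suz h).ind
  · exact Or.inr (H678.DG.He.facts_he h).ind
  · exact Or.inl (four_ru h)
  · exact Or.inr (H492.FactsON.facts_on h).ind
  · exact Or.inr (H653.Spor.Ly.facts_ly (fun X _ _ _ => hK0 X) h).ind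
  · exact Or.inr (H653.Spor.Fi22.facts_fi22 h).ind
  · exact Or.inr (H678.DG.FiBlk.facts_fi23 h).ind
  · exact Or.inl (four_fi24 h)
  · exact Or.inr (H492.FactsHN.facts_hn h).ind
  · exact Or.inr (H492.FactsTh.facts_th h).ind
  · exact Or.inr (H995.IMB.facts_b h).ind
  · exact Or.inr (H816.IMM.facts_m h).ind

theorem rest_all : Rest.{u} := rest H477.HC.tsp62 fun _ _ _ _ h =>
  have f := H678.DG.Tits.facts_tits h
  ⟨f.conn, f.ind, f.tri⟩

/-- **A vertex with four neighbours, or two of any three vertices adjacent.** -/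
theorem ind_or (hK : KnownAll.{u}) (hK0 : KnownAll.{0}) (hH : Herzog.{u}) (S : Type u) [Group S] [Finite S]
    [IsSimpleGroup S] (hna : ¬ IsMulCommutative S) (hL : ¬ IsL2 S) : FourN S ∨
      ∀ p ∈ degreePrimes S, ∀ q ∈ degreePrimes S, ∀ r ∈ degreePrimes S,
        p ≠ q → q ≠ r → p ≠ r → Adj p q S ∨ Adj q r S ∨ Adj p r S := by
  rcases graph_split hK hH rest_all S hna hL with h | h
  · exact Or.inr h.ind
  · exact spor_ind hK0 h

end Cfsg.Agent.H670.Reg
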