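import Cfsg.Agent.OddOrderCharacters.IndRes
import Cfsg.Agent.CharactersDeep.CosetAverage
import Cfsg.Agent.H671.CopRed
import Cfsg.Agent.H681.DegBasic
import Cfsg.Agent.H33.IM
import Mathlib.GroupTheory.Commutator.Finite

/-!
# Multiplication by an extended character (S4919, helper670)

* `mul_irr` (Isaacs, Theorem 6.16 without invariance): `K` normal in `G`, `ψ ∈ Irr(K)`, `Θ` a character of `G` such that
  `φ = ψ Θ_K` is irreducible with the same inertia group; then `χ Θ` is irreducible for every `χ ∈ Irr(G | ψ)`;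
* `gstar` : `K / R ≅ S ^ k` a normal subgroup of `G / R`: for every degree `d` of `G` some degree is divisible by `d` and a
  prime divisor of `|S|`.
-/

set_option autoImplicit false

namespace Cfsg.Agent.H670.Reg

open Cfsg Cfsg.Agent.Characters.Core Cfsg.Agent.OddOrderCharacters.IndRes
  Cfsg.Agent.OddOrderCharacters.NormalInduced Cfsg.Agent.H671.H5 Cfsg.Agent.H681.DegBasic
open scoped ComplexConjugate commutatorElement

universe u v

theorem mul_irr {G : Type u} [Group G] [Fintype G] (K : Subgroup G) [hK : K.Normal] [Fintype K] {ψ : K → ℂ}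
    (hψ : IsIrrCharacter K ψ) {Θ : G → ℂ} (hΘ : IsCharacter G Θ) (hφ : IsIrrCharacter K (ψ * res K Θ))
    (hst : ∀ g : G, conjFn K (ψ * res K Θ) g = ψ * res K Θ → conjFn K ψ g = ψ) {χ : G → ℂ}
    (hχ : IsIrrCharacter G χ) (hin : classInner (res K χ) ψ ≠ 0) : IsIrrCharacter G (χ * Θ) := by
  classical
  have := finite_irr (G := G)
  have := Fintype.ofFinite (IrrCharacter G)
  have hΘc := isCharacter_isClassFunction hΘ
  set I := indFun K ψ with hI
  have hIc : IsCharacter G I := isCharacter_indFun K (isIrr_isCharacter hψ)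
  -- the norms
  have h1 : classInner I I = classInner (I * Θ) (I * Θ) := by
    rw [hI, ← indFun_mul K ψ hΘc, classInner_indFun_self K hψ, classInner_indFun_self K hφ]
    congr 2
    refine Nat.card_congr (Equiv.subtypeEquivRight fun g => ⟨fun hg => ?_, hst g⟩)
    have h2 : conjFn K (ψ * res K Θ) g = conjFn K ψ g * conjFn K (res K Θ) g := rfl
    rw [h2, hg, conjFn_res K hΘc]
  -- multiplicities
  choose n hn using fun β : IrrCharacter G => classInner_isNat hIc (isIrr_isCharacter β.2)
  choose a ha using fun β γ : IrrCharacter G =>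
    classInner_isNat (isCharacter_mul (isIrr_isCharacter β.2) hΘ) (isCharacter_mul (isIrr_isCharacter γ.2) hΘ)
  have hexp : I = ∑ β : IrrCharacter G, (n β : ℂ) • (β : G → ℂ) := by
    rw [classFunction_eq_sum (isCharacter_isClassFunction hIc)]
    exact Finset.sum_congr rfl fun β _ => by rw [hn β]
  have h2 : classInner I I = ∑ β : IrrCharacter G, (n β : ℂ) * n β := by
    rw [classInner_eq_sum (isCharacter_isClassFunction hIc) (isCharacter_isClassFunction hIc)]
    exact Finset.sum_congr rfl fun β _ => by rw [hn β, Complex.conj_natCast]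
  have hexp' : I * Θ = ∑ β : IrrCharacter G, (n β : ℂ) • ((β : G → ℂ) * Θ) := by
    rw [hexp, Finset.sum_mul]
    exact Finset.sum_congr rfl fun β _ => by rw [smul_mul_assoc]
  have h3 : classInner (I * Θ) (I * Θ) = ∑ β : IrrCharacter G, ∑ γ : IrrCharacter G, (n β : ℂ) * n γ * a β γ := by
    rw [hexp', classInner_sum_left]
    refine Finset.sum_congr rfl fun β _ => ?_
    rw [classInner_sum_right]
    refine Finset.sum_congr rfl fun γ _ => ?_
    rw [classInner_smul_left, classInner_smul_right, ha β γ, Complex.conj_natCast]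
    ring
  have h4 : ∑ β : IrrCharacter G, n β * n β = ∑ β : IrrCharacter G, ∑ γ : IrrCharacter G, n β * n γ * a β γ := by
    rw [h2, h3] at h1
    exact_mod_cast h1
  -- the diagonal terms
  have hpos : ∀ β : IrrCharacter G, n β ≠ 0 → 1 ≤ a β β := by
    intro β _
    rw [Nat.one_le_iff_ne_zero]
    intro h0
    have h5 := ha β β
    rw [h0, Nat.cast_zero] at h5
    have h6 := classInner_self_eq_zero h5
    -- `β Θ = 0`: then `Θ 1 = 0` and `ψ Θ_K = 0`
    have h7 := congrFun h6 1
    rw [Pi.mul_apply, Pi.zero_apply, mul_eq_zero] at h7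
    rcases h7 with h7 | h7
    · exact isIrr_apply_one_ne_zero β.2 h7
    · apply isIrr_apply_one_ne_zero hφ
      rw [Pi.mul_apply, res_apply]
      show ψ 1 * Θ 1 = 0
      rw [h7, mul_zero]
  have hle : ∀ β : IrrCharacter G, n β * n β * a β β ≤ ∑ γ : IrrCharacter G, n β * n γ * a β γ := fun β =>
    Finset.single_le_sum (f := fun γ => n β * n γ * a β γ) (fun _ _ => Nat.zero_le _) (Finset.mem_univ β)
  have hle2 : ∀ β : IrrCharacter G, n β * n β ≤ ∑ γ : IrrCharacter G, n β * n γ * a β γ := by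
    intro β
    rcases Nat.eq_zero_or_pos (n β) with h0 | h0
    · rw [h0]; simp
    · refine le_trans ?_ (hle β)
      exact Nat.le_mul_of_pos_right _ (hpos β h0.ne')
  have heq : ∀ β : IrrCharacter G, n β * n β = ∑ γ : IrrCharacter G, n β * n γ * a β γ := by
    intro β
    by_contra hne
    have h5 : ∑ β : IrrCharacter G, n β * n β < ∑ β : IrrCharacter G, ∑ γ : IrrCharacter G, n β * n γ * a β γ :=
      Finset.sum_lt_sum (fun β _ => hle2 β) ⟨β, Finset.mem_univ β, lt_of_le_of_ne (hle2 β) hne⟩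
    omega
  -- conclusion for `χ`
  let χ' : IrrCharacter G := ⟨χ, hχ⟩
  have hnχ : n χ' ≠ 0 := by
    intro h0
    apply hin
    have h5 := hn χ'
    rw [h0, Nat.cast_zero, hI, classInner_indFun_left K ψ (isIrr_isClassFunction χ'.2)] at h5
    rw [← classInner_conj_symm, h5, map_zero]
  have h5 := (hle χ').trans (heq χ').symm.le
  have h6 : a χ' χ' = 1 := by
    have h7 : 0 < n χ' * n χ' := Nat.mul_pos (Nat.pos_of_ne_zero hnχ) (Nat.pos_of_ne_zero hnχ)
    have h8 : a χ' χ' ≤ 1 := by
      by_contra h9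
      push Not at h9
      have h10 : n χ' * n χ' * 2 ≤ n χ' * n χ' * a χ' χ' := Nat.mul_le_mul_left _ h9
      omega
    exact le_antisymm h8 (hpos χ' hnχ)
  refine isIrr_of_classInner_self (isCharacter_mul (isIrr_isCharacter hχ) hΘ) ?_
  have h7 := ha χ' χ'
  rw [h6, Nat.cast_one] at h7
  exact h7

/-- A homomorphism from a power of a nonabelian simple group to an abelian group is trivial. -/
theorem hom_eq_one {S : Type v} [Group S] [IsSimpleGroup S] (hna : ¬ IsMulCommutative S) {k : ℕ} {B : Type*} [CommGroup B]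
    (f : (Fin k → S) →* B) : f = 1 := by
  have h1 : ⁅(⊤ : Subgroup S), (⊤ : Subgroup S)⁆ = ⊤ := by
    have hn : (commutator S).Normal := inferInstance
    rcases hn.eq_bot_or_eq_top with h | h
    · exfalso
      apply hna
      refine ⟨⟨fun a b => ?_⟩⟩
      have h2 : ⁅a, b⁆ ∈ commutator S := Subgroup.commutator_mem_commutator (Subgroup.mem_top a) (Subgroup.mem_top b)
      rw [h, Subgroup.mem_bot, commutatorElement_eq_one_iff_mul_comm] at h2
      exact h2
    · exact h
  have h2 : ⁅(⊤ : Subgroup (Fin k → S)), (⊤ : Subgroup (Fin k → S))⁆ = ⊤ := by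
    have h3 : Subgroup.pi Set.univ (fun _ : Fin k => (⊤ : Subgroup S)) = ⊤ := Subgroup.pi_top _
    have h4 := Subgroup.commutator_pi_pi_of_finite (η := Fin k) (Gs := fun _ => S) (fun _ => ⊤) (fun _ => ⊤)
    simp only [h1, h3] at h4
    exact h4
  ext x
  have hx : x ∈ ⁅(⊤ : Subgroup (Fin k → S)), (⊤ : Subgroup (Fin k → S))⁆ := by
    rw [h2]
    exact Subgroup.mem_top x
  have h5 : ⁅(⊤ : Subgroup (Fin k → S)), (⊤ : Subgroup (Fin k → S))⁆ ≤ f.ker := Abelianization.commutator_subset_ker f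
  rw [MonoidHom.one_apply]
  exact MonoidHom.mem_ker.1 (h5 hx)

/-- A homomorphism to an abelian group, trivial on the kernel of a surjection onto a power of a nonabelian simple group,
is trivial. -/
theorem hom_eq_one' {K L : Type u} [Group K] [Group L] {S : Type v} [Group S] [IsSimpleGroup S]
    (hna : ¬ IsMulCommutative S) {k : ℕ} (e : L ≃* (Fin k → S)) {B : Type*} [CommGroup B] (π : K →* L)
    (hπ : Function.Surjective π) (f : K →* B) (hf : ∀ x, π x = 1 → f x = 1) : f = 1 := by
  let g : (Fin k → S) →* B := (QuotientGroup.lift π.ker f hf).comp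
    ((QuotientGroup.quotientKerEquivOfSurjective π hπ).symm.toMonoidHom.comp e.symm.toMonoidHom)
  have h1 : g = 1 := hom_eq_one hna g
  ext x
  have h2 : g (e (π x)) = f x := by
    show QuotientGroup.lift π.ker f hf ((QuotientGroup.quotientKerEquivOfSurjective π hπ).symm (e.symm (e (π x)))) = f x
    rw [e.symm_apply_apply]
    have h3 : (QuotientGroup.quotientKerEquivOfSurjective π hπ).symm (π x) = (x : K ⧸ π.ker) := by
      rw [MulEquiv.symm_apply_eq]
      rfl
    rw [h3]
    rfl
  rw [← h2, h1]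
  rfl

/-- **Every degree divides a degree divisible by a prime divisor of the order of the simple group.** -/
theorem gstar (hE : FactExt.{0}) {G : Type u} [Group G] [Finite G] (R : Subgroup G) [R.Normal] (L : Subgroup (G ⧸ R))
    [L.Normal] {S : Type} [Group S] [Finite S] [IsSimpleGroup S] (hna : ¬ IsMulCommutative S) {k : ℕ} (hk : 1 ≤ k)
    (e : L ≃* (Fin k → S)) {d : ℕ} (hd : d ∈ charDegrees G) :
    ∃ p : ℕ, p.Prime ∧ p ∣ Nat.card S ∧ ∃ d' ∈ charDegrees G, d ∣ d' ∧ p ∣ d' := by
  classical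
  have := Fintype.ofFinite G
  by_cases hcop : ∃ p : ℕ, p.Prime ∧ p ∣ Nat.card S ∧ p ∣ d
  · obtain ⟨p, hp, hpS, hpd⟩ := hcop
    exact ⟨p, hp, hpS, d, hd, dvd_rfl, hpd⟩
  push Not at hcop
  obtain ⟨χ, hχ, hχ1⟩ := mem_charDegrees.1 hd
  -- the preimage of `L`
  set K : Subgroup G := L.comap (QuotientGroup.mk' R) with hK
  have := Fintype.ofFinite K
  set N : Subgroup K := R.subgroupOf K with hN
  have := Fintype.ofFinite N
  let π : K →* L := (QuotientGroup.mk' R).subgroupComap L
  have hπ : Function.Surjective π := by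
    rintro ⟨y, hy⟩
    obtain ⟨x, rfl⟩ := QuotientGroup.mk'_surjective R y
    exact ⟨⟨x, hy⟩, rfl⟩
  have hπ1 : ∀ x : K, π x = 1 ↔ x ∈ N := by
    intro x
    rw [hN, Subgroup.mem_subgroupOf, ← QuotientGroup.eq_one_iff]
    constructor
    · intro h
      exact congrArg Subtype.val h
    · intro h
      exact Subtype.ext h
  have hidx : N.index = Nat.card S ^ k := by
    have h1 : N = π.ker := by
      ext x
      rw [MonoidHom.mem_ker, hπ1]
    rw [h1, Subgroup.index_ker, MonoidHom.range_eq_top.2 hπ, Nat.card_congr Subgroup.topEquiv.toEquiv, Nat.card_congr e.toEquiv,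
      Nat.card_fun]
    simp
  obtain ⟨ψ, d1, hψ, hψ1, hin, hd1, -⟩ := exists_constituent K hχ hχ1
  obtain ⟨θ, d2, hθ, hθ1, hin2, hd2, hidx2⟩ := exists_constituent N hψ hψ1
  have hd0 : 0 < d := pos_of_mem hd
  have hd10 : 0 < d1 := Nat.pos_of_dvd_of_pos hd1 hd0
  have h12 : d1 = d2 := by
    have h1 : d1 / d2 = 1 := by
      by_contra h
      obtain ⟨p, hp, hpd⟩ := Nat.exists_prime_and_dvd h
      rw [hidx] at hidx2
      exact hcop p hp (hp.dvd_of_dvd_pow (hpd.trans hidx2)) ((hpd.trans (Nat.div_dvd_of_dvd hd2)).trans hd1)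
    have := Nat.div_mul_cancel hd2
    rw [h1, one_mul] at this
    exact this.symm
  have hres : (fun x : N => ψ x) = θ := restrict_eq_of_degree N (isIrr_isCharacter hψ) hθ hin2 (by rw [hψ1, hθ1, h12])
  have hψN : IsIrrCharacter N (fun x : N => ψ x) := by rw [hres]; exact hθ
  -- the extended character
  obtain ⟨α, hα1, hα⟩ := hE S hna
  obtain ⟨Θ, hΘd, hΘv⟩ := H671.CopRed.exists_power R L hna e hα
  have hΘc : IsClassFunction G (Θ : G → ℂ) := isIrr_isClassFunction Θ.2
  have hΘ1 : (Θ : G → ℂ) 1 ≠ 0 := isIrr_apply_one_ne_zero Θ.2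
  have hΘR : ∀ x : K, x ∈ N → (Θ : G → ℂ) x = (Θ : G → ℂ) 1 := by
    intro x hx
    have h1 : ((x : G) : G ⧸ R) = 1 := (QuotientGroup.eq_one_iff _).2 hx
    have h2 := hΘv x (by rw [h1]; exact one_mem _)
    have h3 := hΘv 1 (one_mem _)
    rw [h2, h3]
    have h4 : (⟨((x : G) : G ⧸ R), by rw [h1]; exact one_mem _⟩ : L) = ⟨((1 : G) : G ⧸ R), one_mem _⟩ := Subtype.ext h1
    rw [h4]
  have hΘK : IsIrrCharacter K (res K (Θ : G → ℂ)) := by
    have h1 : res K (Θ : G → ℂ) = (fun s : Fin k → S => ∏ i, (α : S → ℂ) (s i)) ∘ ((e : L →* (Fin k → S)).comp π) := by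
      funext x
      exact hΘv x x.2
    rw [h1]
    exact isIrr_comp _ (e.surjective.comp hπ) (Cfsg.Agent.H713.isIrr_pi α.2)
  -- `ψ Θ_K` is irreducible
  have hφ : IsIrrCharacter K (ψ * res K (Θ : G → ℂ)) := by
    rw [mul_comm]
    refine mul_irr N (ψ := fun _ => 1) isIrr_one (isIrr_isCharacter hψ) ?_ (fun g _ => rfl) hΘK ?_
    · have h1 : ((fun _ => 1) * res N ψ : N → ℂ) = fun x : N => ψ x := by
        funext x
        simp [res_apply]
      rw [h1]
      exact hψN
    · have h1 : res N (res K (Θ : G → ℂ)) = (Θ : G → ℂ) 1 • (fun _ => 1 : N → ℂ) := by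
        funext x
        rw [Pi.smul_apply, smul_eq_mul, mul_one]
        exact hΘR x x.2
      have h2 : classInner (fun _ => 1 : N → ℂ) (fun _ => 1 : N → ℂ) = 1 := classInner_irr_self isIrr_one
      rw [h1, classInner_smul_left, h2, mul_one]
      exact hΘ1
  have hst : ∀ g : G, conjFn K (ψ * res K (Θ : G → ℂ)) g = ψ * res K (Θ : G → ℂ) → conjFn K ψ g = ψ := by
    intro g hg
    have h1 : conjFn K (ψ * res K (Θ : G → ℂ)) g = conjFn K ψ g * conjFn K (res K (Θ : G → ℂ)) g := rfl
    rw [h1, conjFn_res K hΘc] at hg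
    have hψ' := isIrr_conjFn K hψ g
    set ψ' := conjFn K ψ g with hψ'def
    have hN' : (fun x : N => ψ' x) = fun x : N => ψ x := by
      funext x
      have h2 := congrFun hg (x : K)
      rw [Pi.mul_apply, Pi.mul_apply, res_apply, hΘR x x.2] at h2
      exact mul_right_cancel₀ hΘ1 h2
    obtain ⟨η, hη, hηN, hηm⟩ := CharactersDeep.CosetAverage.exists_irr_mul N ψ hψ hψN ψ' hψ' (by
      rw [hN', classInner_irr_self hψN]
      exact one_ne_zero)
    have hη1 : η 1 = 1 := by
      have h2 := congrFun hηm 1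
      rw [Pi.mul_apply, hψ'def, conjFn_apply_one] at h2
      exact mul_left_cancel₀ (isIrr_apply_one_ne_zero hψ) (by rw [← h2, mul_one])
    obtain ⟨f, rfl⟩ := Characters.Linear.exists_hom_of_isIrrCharacter hη hη1
    have hf : f = 1 := by
      refine hom_eq_one' hna e π hπ f fun x hx => ?_
      have h2 := hηN ⟨x, (hπ1 x).1 hx⟩ 1
      rw [mul_one, hη1] at h2
      exact Units.ext h2
    rw [hηm, hf]
    funext x
    simp
  have hfin := mul_irr K hψ (isIrr_isCharacter Θ.2) hφ hst hχ hin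
  obtain ⟨p, hp, hpα⟩ := Nat.exists_prime_and_dvd hα1
  refine ⟨p, hp, hpα.trans (dvd_card ⟨α, rfl⟩), d * charDegree (Θ : G → ℂ), mem_charDegrees.2 ⟨_, hfin, ?_⟩,
    Dvd.intro _ rfl, ?_⟩
  · rw [Pi.mul_apply, hχ1, Blocks.Basic.irr_one_eq_charDegree Θ.2]
    push_cast
    rfl
  · rw [hΘd]
    exact Dvd.dvd.mul_left (hpα.trans (dvd_pow_self _ (by omega))) _

end Cfsg.Agent.H670.Reg
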