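import Cfsg.Agent.H670.Reg.L2b

/-!
# 3-regular degree graphs (S4919): the non-solvable case from the facts on simple groups (helper670)
-/

set_option autoImplicit false

namespace Cfsg.Agent.H670.Reg

open Cfsg Cfsg.Agent.H988.DG

universe u

theorem l2 (hOdd : FactOdd.{u}) (hEven : FactEven.{u}) (G : Type u) [Group G] [Finite G] (T : Fr G) (V : Finset ℕ)
    (c : Reg3 G V) : V.card ≤ 5 := by
  have h4 := T.hF
  rcases Nat.even_or_odd (Fintype.card T.F) with hev | hodd
  · have hchar : CharP T.F 2 := by
      have h6 : ringChar T.F = 2 := FiniteField.even_card_iff_char_two.2 (Nat.even_iff.1 hev)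
      rw [← h6]
      exact ringChar.charP T.F
    obtain ⟨n, -, hn⟩ := FiniteField.card T.F 2
    by_cases h16 : 16 ≤ Fintype.card T.F
    · exact l2_even hEven T c hev h16
    · refine l2_small T c ?_
      have hn4 : (n : ℕ) < 4 := by
        by_contra h
        push Not at h
        have h5 := Nat.pow_le_pow_right (n := 2) (by norm_num) h
        rw [← hn] at h5
        omega
      have h1 : 1 ≤ (n : ℕ) := n.2
      interval_cases (n : ℕ) <;> omega
  · by_cases h7 : 7 ≤ Fintype.card T.F
    · exact l2_odd hOdd T c hodd h7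
    · refine l2_small T c ?_
      obtain ⟨k, hk⟩ := hodd
      omega

/-- **The non-solvable case.** -/
theorem nonsolv (Fa : SFacts.{u}) (hOdd : FactOdd.{u}) (hEven : FactEven.{u}) {G : Type u} [Group G] [Finite G]
    (hG : ¬ Group.IsSolvable G) {V : Finset ℕ} (c : Reg3 G V) : V.card ≤ 5 :=
  red Fa (fun G _ _ T V c => l2 hOdd hEven G T V c) hG c

end Cfsg.Agent.H670.Reg
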