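import Cfsg.Agent.H714.Tri.Out

/-!
# Outer primes over `PSL(2,F)`, `|F|` odd: the prime two (helper670; after helper714)
-/

set_option autoImplicit false

namespace Cfsg.Agent.H670.Reg

open Cfsg Cfsg.Agent.H714.Tri
open Cfsg.Agent.Characters.Core

universe u

variable {Γ : Type u} [Group Γ] [Finite Γ] (S : Subgroup Γ) [hS : S.Normal] {F : Type} [Field F] [Fintype F]
  (e : S ≃* Matrix.ProjectiveSpecialLinearGroup (Fin 2) F)

include e in
/-- **Outer primes**, `|F|` odd: a degree divisible by `2 t s`, `s` an odd prime divisor of `|S|`. -/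
theorem out_odd (hodd : Odd (Fintype.card F)) (hF : 4 ≤ Fintype.card F) (hC : Subgroup.centralizer (S : Set Γ) = ⊥) {t : ℕ}
    (ht : t.Prime) (hdvd : t ∣ S.index) (htS : ¬ t ∣ Nat.card S) : ∃ s : ℕ, s.Prime ∧ s ≠ 2 ∧ s ∣ Nat.card S ∧
      ∃ d ∈ charDegrees Γ, t * (2 * s) ∣ d := by
  classical
  obtain ⟨g, hgS, hgt⟩ := exists_outer S ht hdvd
  obtain ⟨σ, hσ, hσ2, hσ1⟩ := exists_fa (Al S e g)
  -- `σ ^ t = 1`
  have hσt : σ ^ t = 1 := by
    have h1 : ∀ n : ℕ, ∀ x, tsq ((Al S e g ^ n) x) = (σ ^ n) (tsq x) := by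
      intro n
      induction n with
      | zero => intro x; rfl
      | succ k ih =>
        intro x
        rw [pow_succ, pow_succ]
        show tsq ((Al S e g ^ k) (Al S e g x)) = (σ ^ k) (σ (tsq x))
        rw [ih, hσ]
    refine fa_eq_one (α := Al S e g ^ t) (h1 t) (g := e ⟨g ^ t, hgt⟩) ?_
    rw [← map_pow]
    exact al_mem S e ⟨g ^ t, hgt⟩
  have hcardS : Nat.card S = Nat.card (Psl F) := Nat.card_congr e.toEquiv
  have hcard : 2 * Nat.card S = (Fintype.card F + 1) * (Fintype.card F * (Fintype.card F - 1)) := by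
    rw [hcardS]
    exact (H525.L2.frame (MulEquiv.refl (Psl F))).card_odd hodd
  set q := Fintype.card F with hq
  obtain ⟨h, hh⟩ : ∃ h, q = 2 * h + 1 := hodd
  have hcard' : Nat.card S = (2 * h + 1) * (2 * (h * (h + 1))) := by
    have h1 : (q + 1) * (q * (q - 1)) = 2 * ((2 * h + 1) * (2 * (h * (h + 1)))) := by
      rw [hh]
      have : 2 * h + 1 - 1 = 2 * h := by omega
      rw [this]; ring
    rw [h1] at hcard
    exact Nat.eq_of_mul_eq_mul_left (by norm_num) hcard
  have h4S : 4 ∣ Nat.card S := by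
    rw [hcard']
    obtain ⟨c, hc⟩ := Nat.even_mul_succ_self h
    exact ⟨(2 * h + 1) * c, by rw [hc]; ring⟩
  have ht2 : t ≠ 2 := by
    rintro rfl
    exact htS ((by norm_num : (2 : ℕ) ∣ 4).trans h4S)
  have htodd : Odd t := ht.odd_of_ne_two ht2
  have hσn : σ ≠ 1 := by
    intro h1
    obtain ⟨y, hy⟩ := hσ2 h1
    apply hgS
    have hgg : g * g ∈ S := mem_of_inner S e hC (y := y) (by rw [map_mul]; exact hy)
    obtain ⟨k, hk⟩ := htodd
    have h2 : g ^ t = (g * g) ^ k * g := by rw [hk, pow_succ, pow_mul, pow_two]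
    have h3 := S.mul_mem (S.inv_mem (S.pow_mem hgg k)) hgt
    rwa [h2, inv_mul_cancel_left] at h3
  have hord : orderOf σ = t := by
    have h1 := orderOf_dvd_of_pow_eq_one hσt
    rcases (Nat.dvd_prime ht).1 h1 with h | h
    · exact absurd (orderOf_eq_one_iff.1 h) hσn
    · exact h
  have ht3 : 3 ≤ t := by
    have := ht.two_le
    omega
  obtain ⟨χ, hχ1, hχ⟩ := exists_nonfixed_odd ⟨h, hh⟩ hσ (by rw [hord]; exact ht3)
  obtain ⟨d, hd, hdd⟩ := exists_degree S e hC ht hgt χ hχ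
  have hcardt := StdL2.FGal.card_fixed σ
  rw [Nat.card_eq_fintype_card (α := F), hord] at hcardt
  have hq0 := StdL2.FGal.one_lt_card_fixed σ
  rcases hχ1 with hχ1 | hχ1
  · rw [charDegree_eq_of (n := q + 1) (by rw [hχ1, Nat.cast_add, Nat.cast_one])] at hdd
    obtain ⟨s, hs, hs2, hsd⟩ := exists_prime_ne (m := q + 1) (r := 2) (by omega) (by
      intro k hk
      rw [hq, hcardt] at hk
      exact not_two_pow_add hq0 htodd ht3 hk)
    have hsS : s ∣ h + 1 := by
      have h1 : q + 1 = 2 * (h + 1) := by omega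
      rw [h1] at hsd
      exact (Nat.Coprime.dvd_of_dvd_mul_left ((Nat.coprime_primes hs Nat.prime_two).2 hs2) hsd)
    refine ⟨s, hs, hs2, ?_, d, hd, ?_⟩
    · rw [hcard']; exact Dvd.dvd.mul_left (Dvd.dvd.mul_left (Dvd.dvd.mul_left hsS _) _) _
    · refine (Nat.mul_dvd_mul_left t ?_).trans hdd
      have h1 : q + 1 = 2 * (h + 1) := by omega
      rw [h1]
      exact Nat.mul_dvd_mul_left 2 hsS
  · rw [charDegree_eq_of (n := q - 1) (by rw [hχ1, Nat.cast_sub (by omega), Nat.cast_one])] at hdd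
    obtain ⟨s, hs, hs2, hsd⟩ := exists_prime_ne (m := q - 1) (r := 2) (by omega) (by
      intro k hk
      rcases Nat.eq_zero_or_pos k with h0 | h0
      · rw [h0, pow_zero] at hk; omega
      · rw [hq, hcardt] at hk
        exact not_two_pow_sub hq0 htodd ht3 (by omega) hk)
    have hsS : s ∣ h := by
      have h1 : q - 1 = 2 * h := by omega
      rw [h1] at hsd
      exact (Nat.Coprime.dvd_of_dvd_mul_left ((Nat.coprime_primes hs Nat.prime_two).2 hs2) hsd)
    refine ⟨s, hs, hs2, ?_, d, hd, ?_⟩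
    · rw [hcard']; exact Dvd.dvd.mul_left (Dvd.dvd.mul_left (Dvd.dvd.mul_right hsS _) _) _
    · refine (Nat.mul_dvd_mul_left t ?_).trans hdd
      have h1 : q - 1 = 2 * h := by omega
      rw [h1]
      exact Nat.mul_dvd_mul_left 2 hsS

end Cfsg.Agent.H670.Reg
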