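import Cfsg.Agent.H670.Reg.Red
import Cfsg.Agent.H670.Reg.OutOdd
import Cfsg.Agent.H988.DG.Out

/-!
# 3-regular degree graphs (S4919): `G / R` almost simple with socle `PSL(2,q)`; `q = 5` or `q` odd, `q = 4, 8` (helper670)

* `memR` : a vertex prime to `|PSL(2,q)|` is an outer prime or divides a degree of `R`;
* `l2_small` : `q = 4, 5, 8`;
* `l2_odd` : `q ≥ 7` odd.
-/

set_option autoImplicit false

namespace Cfsg.Agent.H670.Reg

open Cfsg Subgroup Cfsg.Agent.H33 Cfsg.Agent.H671.H5 Cfsg.Agent.H681.DegBasic Cfsg.Agent.H671.Link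
  Cfsg.Agent.H459.Rad Cfsg.Agent.H988.DG Cfsg.Agent.Characters.Core

universe u v

section

variable {G : Type u} [Group G]

theorem im_adj {a b : ℕ} (hab : a ≠ b) (ha : a.Prime) (hb : b.Prime) {m : ℕ} (h : H33.IM m G) (h1 : a ∣ m) (h2 : b ∣ m) :
    (degreeGraph G).Adj a b := by
  obtain ⟨χ, hχ⟩ := h
  exact adj_of ⟨χ, rfl⟩ ha hb hab (h1.trans hχ) (h2.trans hχ)

variable [Finite G]

theorem memR (T : Fr G) {t : ℕ} (ht : t ∈ degreePrimes G) (h1 : ¬ t ∣ Nat.card T.L) : t ∣ T.Kb.index ∨ H33.IM t T.R := by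
  classical
  have := Fintype.ofFinite G
  have := Fintype.ofFinite T.R
  obtain ⟨htp, χ, hχ⟩ := mem_dp_iff.1 ht
  by_cases h2 : t ∣ T.Kb.index
  · exact Or.inl h2
  right
  obtain ⟨n, hn, hn'⟩ := isIrr_apply_one χ.2
  rw [H670.PSing.charDegree_eq_of hn'] at hχ
  obtain ⟨ψ, d, hψ, hψ1, -, hdn, hdi⟩ := exists_constituent T.R χ.2 hn'
  refine IM.of_apply_one hψ hψ1 ?_
  have h4 : n = d * (n / d) := (Nat.mul_div_cancel' hdn).symm
  rw [h4, htp.dvd_mul] at hχ
  rcases hχ with h | h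
  · exact h
  · exfalso
    have h5 : t ∣ T.R.index := h.trans hdi
    have h6 : T.R.index = Nat.card T.Kb * T.Kb.index := by
      rw [Subgroup.index_eq_card T.R]
      exact (Subgroup.card_mul_index T.Kb).symm
    rw [h6, htp.dvd_mul, T.card_Kb] at h5
    rcases h5 with h5 | h5
    · exact h1 h5
    · exact h2 h5

omit [Finite G] in
theorem two_of {x p q : ℕ} (T : Fr G) (hx : x.Prime) (hp : p.Prime) (hq : q.Prime) (hpq : p ≠ q) (hpd : p ∣ Nat.card T.L)
    (hqd : q ∣ Nat.card T.L) (hxd : ¬ x ∣ Nat.card T.L) (h : H33.IM (x * (p * q)) G) :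
    (degreeGraph G).Adj x p ∧ (degreeGraph G).Adj x q ∧ (degreeGraph G).Adj p q := by
  have h1 : x ≠ p := by rintro rfl; exact hxd hpd
  have h2 : x ≠ q := by rintro rfl; exact hxd hqd
  exact ⟨im_adj h1 hx hp h (Dvd.intro _ rfl) ((Dvd.intro _ rfl).trans (Dvd.intro_left _ rfl)),
    im_adj h2 hx hq h (Dvd.intro _ rfl) ((Dvd.intro_left _ rfl).trans (Dvd.intro_left _ rfl)),
    im_adj hpq hp hq h ((Dvd.intro _ rfl).trans (Dvd.intro_left _ rfl)) ((Dvd.intro_left _ rfl).trans (Dvd.intro_left _ rfl))⟩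

/-- `q = 4, 5, 8` -/
theorem l2_small (T : Fr G) {V : Finset ℕ} (c : Reg3 G V)
    (hF : Fintype.card T.F = 4 ∨ Fintype.card T.F = 5 ∨ Fintype.card T.F = 8) : V.card ≤ 5 := by
  classical
  have hsimp : IsSimpleGroup (Matrix.ProjectiveSpecialLinearGroup (Fin 2) T.F) :=
    Matrix.ProjectiveSpecialLinearGroup.rank_two_simple (by have := T.hF; rw [Nat.card_eq_fintype_card]; omega)
  set P : Finset ℕ := (Nat.card T.L).primeFactors with hPdef
  have hPm : ∀ p, p ∈ P ↔ p.Prime ∧ p ∣ Nat.card T.L := fun p => by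
    rw [hPdef, Nat.mem_primeFactors]
    exact ⟨fun h => ⟨h.1, h.2.1⟩, fun h => ⟨h.1, h.2, Nat.card_pos.ne'⟩⟩
  have hna : ¬ IsMulCommutative T.L := by
    intro h
    obtain ⟨h2, p, q, hp, hq, hp2, hq2, hpq, h6, h7⟩ :=
      primes_psl T.hF (MulEquiv.refl (Matrix.ProjectiveSpecialLinearGroup (Fin 2) T.F))
    have h9 : (2 : ℕ) ∣ Nat.card T.L := two_dvd_card_psl T.hF
    have h10 : Nat.card T.L = 2 := by
      let iC : CommGroup T.L := { (inferInstance : Group T.L) with mul_comm := h.is_comm.comm }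
      have h11 : (Nat.card T.L).Prime := @IsSimpleGroup.prime_card T.L iC hsimp
      exact ((Nat.prime_dvd_prime_iff_eq Nat.prime_two h11).1 h9).symm
    have h12 := h6.dvd_card
    rw [h10, Nat.prime_dvd_prime_iff_eq hp Nat.prime_two] at h12
    exact hp2 h12
  have hP3 : P.card = 3 := le_antisymm (card_le_three hF) (three_le_primes hna)
  refine c.cub.smallD hP3 (fun x => x.Prime ∧ H33.IM x T.R) ?_ ?_
  · rintro x y z ⟨hxp, hx⟩ ⟨hyp, hy⟩ ⟨hzp, hz⟩ hxy hyz hxz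
    have hs := T.sol
    have up : ∀ {a b : ℕ}, H671.H5.Adj a b T.R → (degreeGraph G).Adj a b := by
      intro a b h
      obtain ⟨h5, h6, h7, h8⟩ := Cfsg.Agent.H988.DG.adj_iff.1 h
      exact Cfsg.Agent.H988.DG.adj_iff.2 ⟨h5, h6, h7, h8.of_normal T.R⟩
    rcases H748.Palfy.palfy hs (mem_dp_iff.2 ⟨hxp, hx⟩) (mem_dp_iff.2 ⟨hyp, hy⟩) (mem_dp_iff.2 ⟨hzp, hz⟩) hxy hyz hxz with
      h | h | h
    · exact Or.inl (up h)
    · exact Or.inr (Or.inl (up h))
    · exact Or.inr (Or.inr (up h))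
  · intro x hx hxP
    have hxd := (c.hV x).1 hx
    have hxp := hxd.1
    have hxL : ¬ x ∣ Nat.card T.L := fun h => hxP ((hPm x).2 ⟨hxp, h⟩)
    rcases memR T hxd hxL with h | h
    · left
      obtain ⟨r, s, hr, hs, hrs, hrd, hsd, d, ⟨ψ, rfl⟩, hd⟩ := outFact (G ⧸ T.R) T.Kb T.F T.e T.hF T.cen x hxp h
        (by rwa [T.card_Kb])
      rw [T.card_Kb] at hrd hsd
      have h5 : H33.IM (x * (r * s)) (G ⧸ T.R) := ⟨ψ, by rwa [← mul_assoc]⟩
      obtain ⟨h6, h7, h8⟩ := two_of T hxp hr hs hrs hrd hsd hxL (h5.of_quotient T.R)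
      exact ⟨r, (hPm r).2 ⟨hr, hrd⟩, s, (hPm s).2 ⟨hs, hsd⟩, hrs, h6, h7, h8⟩
    · rcases T.out_R h with ⟨r, s, hr, hs, hrs, hrd, hsd, h4⟩ | ⟨h4, h5⟩
      · left
        obtain ⟨h6, h7, h8⟩ := two_of T hxp hr hs hrs hrd hsd hxL h4
        exact ⟨r, (hPm r).2 ⟨hr, hrd⟩, s, (hPm s).2 ⟨hs, hsd⟩, hrs, h6, h7, h8⟩
      · right
        refine ⟨?_, hxp, h⟩
        intro a ha
        obtain ⟨hap, had⟩ := (hPm a).1 ha
        have h6 := h5 a (H664.R1.PSLTwo.im_psl T.hF hap had)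
        have hxa : x ≠ a := by rintro rfl; exact hxP ha
        exact im_adj hxa hxp hap h6 (Dvd.intro _ rfl) (Dvd.intro_left _ rfl)

/-- `q ≥ 7` odd -/
theorem l2_odd (hOdd : FactOdd.{u}) (T : Fr G) {V : Finset ℕ} (c : Reg3 G V)
    (hodd : Odd (Fintype.card T.F)) (h7 : 7 ≤ Fintype.card T.F) : V.card ≤ 5 := by
  classical
  have hpr : (ringChar T.F).Prime := CharP.char_is_prime T.F _
  have hFp : Fact (ringChar T.F).Prime := ⟨hpr⟩
  have hCh : CharP T.F (ringChar T.F) := ringChar.charP T.F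
  obtain ⟨nn, hnn, hq⟩ := FiniteField.card T.F (ringChar T.F)
  have hp2 : ringChar T.F ≠ 2 := by
    intro h
    have := FiniteField.even_card_iff_char_two.1 h
    rw [Nat.odd_iff] at hodd
    omega
  obtain ⟨-, hadj⟩ := S4774.result T.F (ringChar T.F) hp2 (Fintype.card T.F) rfl (by omega) (Or.inl ⟨MulEquiv.refl _⟩)
  have hsq : Fintype.card T.F ^ 2 - 1 = (Fintype.card T.F + 1) * (Fintype.card T.F - 1) := by
    have := Nat.sq_sub_sq (Fintype.card T.F) 1
    rwa [one_pow] at this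
  have hcard := SmallSimple.PSLTwoPart.card_psl_two_odd (F := T.F) hodd
  set p := ringChar T.F with hpd
  set q := Fintype.card T.F with hqd
  have hupL : ∀ {a b : ℕ}, (degreeGraph T.L).Adj a b → (degreeGraph G).Adj a b := by
    intro a b h
    obtain ⟨h1, h2, h4, h5⟩ := Cfsg.Agent.H988.DG.adj_iff.1 h
    exact Cfsg.Agent.H988.DG.adj_iff.2 ⟨h1, h2, h4, T.im_of_L h5⟩
  have h2sq : 2 ∣ q ^ 2 - 1 := by
    rw [hsq]
    obtain ⟨k, hk⟩ := hodd
    exact Dvd.dvd.mul_left ⟨k, by omega⟩ _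
  have hsq0 : q ^ 2 - 1 ≠ 0 := by
    rw [hsq]
    exact Nat.mul_ne_zero (by omega) (by omega)
  set C : Finset ℕ := (q ^ 2 - 1).primeFactors.erase 2 with hC
  have hCm : ∀ x, x ∈ C ↔ x ≠ 2 ∧ x.Prime ∧ x ∣ q ^ 2 - 1 := by
    intro x
    rw [hC, Finset.mem_erase, Nat.mem_primeFactors]
    exact ⟨fun h => ⟨h.1, h.2.1, h.2.2.1⟩, fun h => ⟨h.1, h.2.1, h.2.2, hsq0⟩⟩
  -- prime divisors of `|L|`
  have hL2 : ∀ x : ℕ, x.Prime → x ∣ Nat.card T.L → x = 2 ∨ x = p ∨ x ∈ C := by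
    intro x hx hxL
    have h1 : x ∣ q * (q ^ 2 - 1) := by
      rw [← hcard]
      exact hxL.mul_left _
    rcases hx.dvd_mul.1 h1 with h2 | h2
    · right; left
      rw [hq] at h2
      exact (Nat.prime_dvd_prime_iff_eq hx hpr).1 (hx.dvd_of_dvd_pow h2)
    · by_cases h3 : x = 2
      · exact Or.inl h3
      · exact Or.inr (Or.inr ((hCm x).2 ⟨h3, hx, h2⟩))
  have hpL : p ∣ Nat.card T.L := by
    have h1 : p ∣ 2 * Nat.card T.L := by
      rw [hcard]
      refine Dvd.dvd.mul_right ?_ _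
      rw [hq]
      exact dvd_pow_self _ nn.pos.ne'
    exact (Nat.Coprime.dvd_of_dvd_mul_left ((Nat.coprime_primes hpr Nat.prime_two).2 hp2) h1)
  have hCL : ∀ x ∈ C, x ∣ Nat.card T.L := by
    intro x hx
    obtain ⟨h1, h2, h3⟩ := (hCm x).1 hx
    have h4 : x ∣ 2 * Nat.card T.L := by
      rw [hcard]
      exact h3.mul_left _
    exact (Nat.Coprime.dvd_of_dvd_mul_left ((Nat.coprime_primes h2 Nat.prime_two).2 h1) h4)
  have h2L : 2 ∣ Nat.card T.L := two_dvd_card_psl T.hF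
  have hpC : p ∉ C := by
    intro h
    obtain ⟨h1, h2, h3⟩ := (hCm p).1 h
    have h4 : p ∣ q ^ 2 := by
      rw [hq, ← pow_mul]
      exact dvd_pow_self _ (Nat.mul_ne_zero nn.pos.ne' (by norm_num))
    have h5 := (Nat.dvd_sub h4 h3)
    have h6 : q ^ 2 - (q ^ 2 - 1) = 1 := by
      have : 1 ≤ q ^ 2 := Nat.one_le_pow _ _ (by omega)
      omega
    rw [h6] at h5
    exact hpr.one_lt.ne' (Nat.dvd_one.1 h5)
  have hCn : C.Nonempty := by
    obtain ⟨h2, a, b, ha, hb, ha2, hb2, hab, h8, h9⟩ :=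
      primes_psl T.hF (MulEquiv.refl (Matrix.ProjectiveSpecialLinearGroup (Fin 2) T.F))
    rcases hL2 a ha h8.dvd_card with h | h | h
    · exact absurd h ha2
    · rcases hL2 b hb h9.dvd_card with h' | h' | h'
      · exact absurd h' hb2
      · exact absurd (h.trans h'.symm) hab
      · exact ⟨b, h'⟩
    · exact ⟨a, h⟩
  refine c.cub.oddC (p := p) (C := C) hp2 (fun h => ((hCm 2).1 h).1 rfl) hpC hCn ?_ ?_
  · intro x hx
    obtain ⟨h1, h2, h3⟩ := (hCm x).1 hx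
    exact hupL ((hadj 2 x).2 ⟨h1.symm, Nat.prime_two, h2, h2sq, h3, Or.inl rfl⟩)
  · intro x hx hx2 hxp hxC
    have hxd := (c.hV x).1 hx
    have hxpr := hxd.1
    have hxL : ¬ x ∣ Nat.card T.L := by
      intro h
      rcases hL2 x hxpr h with h' | h' | h'
      · exact hx2 h'
      · exact hxp h'
      · exact hxC h'
    rcases memR T hxd hxL with h | h
    · obtain ⟨s, hs, hs2, hsd, d, ⟨ψ, rfl⟩, hd⟩ := out_odd T.Kb T.e hodd T.hF T.cen hxpr h (by rwa [T.card_Kb])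
      rw [T.card_Kb] at hsd
      have h5 : H33.IM (x * (2 * s)) (G ⧸ T.R) := ⟨ψ, hd⟩
      obtain ⟨h6, h7, h8⟩ := two_of T hxpr Nat.prime_two hs hs2.symm h2L hsd hxL (h5.of_quotient T.R)
      exact ⟨⟨2, s, Or.inl rfl, hL2 s hs hsd, hs2.symm, h6, h7, h8⟩, Or.inl h6⟩
    · constructor
      · rcases T.out_R h with ⟨r, s, hr, hs, hrs, hrd, hsd, h4⟩ | ⟨h4, -⟩
        · obtain ⟨h6, h7, h8⟩ := two_of T hxpr hr hs hrs hrd hsd hxL h4
          exact ⟨r, s, hL2 r hr hrd, hL2 s hs hsd, hrs, h6, h7, h8⟩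
        · exfalso
          rw [← hqd] at h4
          obtain ⟨k, hk⟩ := hodd
          omega
      · have := Fintype.ofFinite T.K
        have := Fintype.ofFinite T.f.ker
        obtain ⟨θ, hθ⟩ : H33.IM x T.f.ker := h.of_equiv T.kerEquiv
        obtain ⟨χ, -, d, hd, hd'⟩ := hOdd T.K T.f.ker T.F hodd h7
          (QuotientGroup.quotientKerEquivOfSurjective T.f T.f_surj) θ
        have hK : H33.IM (d * x) G := T.im_of_K ⟨χ, by rw [hd]; exact Nat.mul_dvd_mul_left d hθ⟩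
        rcases hd' with h2 | h2
        · left
          exact im_adj hx2 hxpr Nat.prime_two hK (Dvd.intro_left _ rfl) (h2.mul_right _)
        · right
          have hp' := h2 p hpr hp2 hpL
          refine ⟨im_adj hxp hxpr hpr hK (Dvd.intro_left _ rfl) (hp'.mul_right _), ?_, ?_⟩
          · intro c' hc'
            obtain ⟨e1, e2, -⟩ := (hCm c').1 hc'
            have h4 := h2 c' e2 e1 (hCL c' hc')
            refine ⟨im_adj ?_ hxpr e2 hK (Dvd.intro_left _ rfl) (h4.mul_right _),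
              im_adj ?_ hpr e2 hK (hp'.mul_right _) (h4.mul_right _)⟩
            · rintro rfl; exact hxC hc'
            · rintro rfl; exact hpC hc'
          · intro a ha b hb hab
            obtain ⟨a1, a2, -⟩ := (hCm a).1 ha
            obtain ⟨b1, b2, -⟩ := (hCm b).1 hb
            exact im_adj hab a2 b2 hK ((h2 a a2 a1 (hCL a ha)).mul_right _) ((h2 b b2 b1 (hCL b hb)).mul_right _)

end

end Cfsg.Agent.H670.Reg
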