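import Cfsg.Agent.H670.Reg.L2a
import Cfsg.Agent.H988.DG.NonSolvC
import Cfsg.Agent.H191.CrossF

/-!
# 3-regular degree graphs (S4919): `G / R` almost simple with socle `PSL(2,q)`, `q ≥ 16` even (helper670)

* `resid` : a group with a solvable normal subgroup with quotient `PSL(2,q)` is a direct product or has degrees linking
  `q - 1` and `q + 1`;
* `l2_even`.
-/

set_option autoImplicit false

namespace Cfsg.Agent.H670.Reg

open Cfsg Subgroup Cfsg.Agent.H33 Cfsg.Agent.H671.H5 Cfsg.Agent.H681.DegBasic Cfsg.Agent.H671.Link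
  Cfsg.Agent.H459.Rad Cfsg.Agent.H988.DG Cfsg.Agent.Characters.Core

universe u v

theorem resid {X : Type u} [Group X] [Finite X] {F : Type} [Field F] [Fintype F]
    (f : X →* Matrix.ProjectiveSpecialLinearGroup (Fin 2) F) (hfs : Function.Surjective f) (hks : Group.IsSolvable f.ker)
    (hev : Even (Fintype.card F)) (h4 : 4 < Fintype.card F) :
    (∃ (D : Subgroup X) (_ : D.Normal), (∀ a ∈ D, ∀ b ∈ f.ker, a * b = b * a) ∧ D ⊓ f.ker = ⊥ ∧
      (∀ g : X, ∃ a ∈ D, ∃ b ∈ f.ker, a * b = g) ∧ Nonempty (D ≃* Matrix.ProjectiveSpecialLinearGroup (Fin 2) F)) ∨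
    ((∃ d ∈ charDegrees X, Fintype.card F ^ 2 - 1 ∣ d) ∨ ∃ x : ℕ, x.Prime ∧ x ∣ Fintype.card F - 1 ∧
      ∃ d ∈ charDegrees X, 2 * x * (Fintype.card F + 1) ∣ d) := by
  classical
  have hsimp : IsSimpleGroup (Matrix.ProjectiveSpecialLinearGroup (Fin 2) F) :=
    Matrix.ProjectiveSpecialLinearGroup.rank_two_simple (by rw [Nat.card_eq_fintype_card]; omega)
  have hna : ¬ Group.IsSolvable (Matrix.ProjectiveSpecialLinearGroup (Fin 2) F) := by
    intro h
    have hc : ∀ a b : Matrix.ProjectiveSpecialLinearGroup (Fin 2) F, a * b = b * a := IsSimpleGroup.comm_iff_isSolvable.2 h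
    obtain ⟨h2, p, q, hp, hq, hp2, hq2, hpq, h6, h7⟩ :=
      primes_psl h4.le (MulEquiv.refl (Matrix.ProjectiveSpecialLinearGroup (Fin 2) F))
    have h9 : (2 : ℕ) ∣ Nat.card (Matrix.ProjectiveSpecialLinearGroup (Fin 2) F) := two_dvd_card_psl h4.le
    have h10 : Nat.card (Matrix.ProjectiveSpecialLinearGroup (Fin 2) F) = 2 := by
      let iC : CommGroup (Matrix.ProjectiveSpecialLinearGroup (Fin 2) F) :=
        { (inferInstance : Group (Matrix.ProjectiveSpecialLinearGroup (Fin 2) F)) with mul_comm := hc }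
      have h11 : (Nat.card (Matrix.ProjectiveSpecialLinearGroup (Fin 2) F)).Prime :=
        @IsSimpleGroup.prime_card (Matrix.ProjectiveSpecialLinearGroup (Fin 2) F) iC hsimp
      exact ((Nat.prime_dvd_prime_iff_eq Nat.prime_two h11).1 h9).symm
    have h12 := h6.dvd_card
    rw [h10, Nat.prime_dvd_prime_iff_eq hp Nat.prime_two] at h12
    exact hp2 h12
  obtain ⟨D, hDn, hperf, hDs⟩ := H671.Frame.exists_residual X
  -- `D` maps onto the simple group
  have hDR : D.map f = ⊤ := by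
    rcases hsimp.eq_bot_or_eq_top_of_normal (D.map f) (hDn.map _ hfs) with h | h
    · exfalso
      rw [Subgroup.map_eq_bot_iff] at h
      have h1 : Group.IsSolvable D := Group.isSolvable_of_isSolvable_injective (Subgroup.inclusion_injective h)
      have h2 : Group.IsSolvable X := Group.isSolvable_of_ker_le_range D.subtype (QuotientGroup.mk' D) (by
        rw [QuotientGroup.ker_mk', Subgroup.range_subtype])
      exact hna (Group.isSolvable_of_surjective hfs)
    · exact h
  let g : D →* Matrix.ProjectiveSpecialLinearGroup (Fin 2) F := f.comp D.subtype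
  have hgk : ∀ x : D, x ∈ g.ker ↔ (x : X) ∈ f.ker := by
    intro x
    rw [MonoidHom.mem_ker, MonoidHom.mem_ker]
    rfl
  have hgs : Function.Surjective g := by
    intro y
    have h1 : y ∈ D.map f := by rw [hDR]; trivial
    obtain ⟨d, hd, hdy⟩ := h1
    exact ⟨⟨d, hd⟩, hdy⟩
  have hks' : Group.IsSolvable g.ker := by
    let j : g.ker →* f.ker :=
      { toFun := fun x => ⟨(x : D), (hgk x).1 x.2⟩
        map_one' := rfl
        map_mul' := fun _ _ => rfl }
    exact Group.isSolvable_of_isSolvable_injective (f := j) (by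
      intro x y hxy
      have h1 : ((j x : f.ker) : X) = (j y : f.ker) := congrArg Subtype.val hxy
      exact Subtype.ext (Subtype.ext h1))
  by_cases hV0 : g.ker = ⊥
  · left
    have hinf : D ⊓ f.ker = ⊥ := by
      rw [eq_bot_iff]
      rintro x ⟨hx, hxR⟩
      have h1 : (⟨x, hx⟩ : D) ∈ g.ker := (hgk _).2 hxR
      rw [hV0, Subgroup.mem_bot] at h1
      exact congrArg Subtype.val h1
    have hcomm : ∀ a ∈ D, ∀ b ∈ f.ker, a * b = b * a := by
      intro a ha b hb
      have h1 : a * b * a⁻¹ * b⁻¹ ∈ D ⊓ f.ker := by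
        refine Subgroup.mem_inf.2 ⟨?_, f.ker.mul_mem ((inferInstance : f.ker.Normal).conj_mem b hb a) (f.ker.inv_mem hb)⟩
        have : a * b * a⁻¹ * b⁻¹ = a * (b * a⁻¹ * b⁻¹) := by group
        rw [this]
        exact D.mul_mem ha (hDn.conj_mem _ (D.inv_mem ha) b)
      rw [hinf, Subgroup.mem_bot] at h1
      have h2 : a * b = (a * b * a⁻¹ * b⁻¹) * (b * a) := by group
      rw [h2, h1, one_mul]
    have hall : ∀ x : X, ∃ a ∈ D, ∃ b ∈ f.ker, a * b = x := by
      intro x
      have h1 : f x ∈ D.map f := by rw [hDR]; trivial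
      obtain ⟨d, hd, hdg⟩ := h1
      refine ⟨d, hd, d⁻¹ * x, ?_, by group⟩
      rw [MonoidHom.mem_ker, map_mul, map_inv, hdg, inv_mul_cancel]
    exact ⟨D, hDn, hcomm, hinf, hall, ⟨MulEquiv.ofBijective g ⟨(MonoidHom.ker_eq_bot_iff g).1 hV0, hgs⟩⟩⟩
  · right
    obtain ⟨N0, hN0, hle, hVb, hVc, hmin⟩ := exists_chief g.ker hks' hV0
    have hVn : (g.ker.map (QuotientGroup.mk' N0)).Normal :=
      Subgroup.Normal.map inferInstance _ (QuotientGroup.mk'_surjective N0)
    have e2 : ((D ⧸ N0) ⧸ (g.ker.map (QuotientGroup.mk' N0))) ≃* Matrix.ProjectiveSpecialLinearGroup (Fin 2) F :=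
      (QuotientGroup.quotientQuotientEquivQuotient N0 g.ker hle).trans
        (QuotientGroup.quotientKerEquivOfSurjective g hgs)
    have up : ∀ {d m : ℕ}, d ∈ charDegrees (D ⧸ N0) → m ∣ d → ∃ d' ∈ charDegrees X, m ∣ d' := by
      intro d m hd hm
      obtain ⟨d', hd', hdd⟩ := overN D (quot N0 hd)
      exact ⟨d', hd', hm.trans hdd⟩
    by_cases hcen : g.ker.map (QuotientGroup.mk' N0) ≤ Subgroup.center (D ⧸ N0)
    · exfalso
      apply hVb
      refine no_central ?_ _ hcen hev h4 e2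
      have h1 : (commutator D).map (QuotientGroup.mk' N0) = commutator (D ⧸ N0) := by
        rw [commutator_def, commutator_def, Subgroup.map_commutator,
          Subgroup.map_top_of_surjective _ (QuotientGroup.mk'_surjective N0)]
      rw [← h1, perfect_of hperf, Subgroup.map_top_of_surjective _ (QuotientGroup.mk'_surjective N0)]
    · rcases Cfsg.Agent.H191.Cross.crossF (g.ker.map (QuotientGroup.mk' N0)) hVc hmin hcen F hev h4 e2 with
        ⟨d, hd, hdd⟩ | ⟨x, hx, hxd, d, hd, hdd⟩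
      · exact Or.inl (up hd hdd)
      · exact Or.inr ⟨x, hx, hxd, up hd hdd⟩

/-- degrees of a direct product `PSL(2,q) × B`, `q` even: if `2 p` divides one then `2` or `p` divides a degree of `B` -/
theorem prod_two {A B : Type u} [Group A] [Finite A] [Group B] [Finite B] {F : Type} [Field F] [Fintype F]
    (e : A ≃* Matrix.ProjectiveSpecialLinearGroup (Fin 2) F) (hev : Even (Fintype.card F)) (h4 : 4 ≤ Fintype.card F)
    {p : ℕ} (hp : p.Prime) (hp2 : p ≠ 2) (h : H33.IM (2 * p) (A × B)) : H33.IM 2 B ∨ H33.IM p B := by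
  obtain ⟨χ, hχ⟩ := h
  obtain ⟨φ, ψ, hφ, hψ, he⟩ := (S0188.result (χ : A × B → ℂ)).1 χ.2
  obtain ⟨n, -, hn⟩ := isIrr_apply_one hφ
  obtain ⟨k, -, hk⟩ := isIrr_apply_one hψ
  have h1 : (χ : A × B → ℂ) 1 = (n * k : ℕ) := by
    rw [he]
    change φ 1 * ψ 1 = _
    rw [hn, hk, Nat.cast_mul]
  rw [H670.PSing.charDegree_eq_of h1] at hχ
  by_cases h2 : 2 ∣ k
  · exact Or.inl (IM.of_apply_one hψ hk h2)
  by_cases h3 : p ∣ k
  · exact Or.inr (IM.of_apply_one hψ hk h3)
  exfalso
  have h5 : 2 ∣ n := ((Nat.prime_two.dvd_mul).1 ((Dvd.intro _ rfl).trans hχ)).resolve_right h2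
  have h6 : p ∣ n := ((hp.dvd_mul).1 ((Dvd.intro_left _ rfl).trans hχ)).resolve_right h3
  have h7 : H33.IM (2 * p) A := IM.of_apply_one hφ hn
    (Nat.Coprime.mul_dvd_of_dvd_of_dvd ((Nat.coprime_primes Nat.prime_two hp).2 hp2.symm) h5 h6)
  have h8 : H33.IM (2 * p) (Matrix.ProjectiveSpecialLinearGroup (Fin 2) F) := (IM.congr e).1 h7
  have hchar : CharP F 2 := by
    have h6 : ringChar F = 2 := FiniteField.even_card_iff_char_two.2 (Nat.even_iff.1 hev)
    rw [← h6]
    exact ringChar.charP F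
  obtain ⟨-, hadj⟩ := S4812.result F (Fintype.card F) rfl h4 (Or.inl ⟨MulEquiv.refl _⟩)
  obtain ⟨-, -, -, h9⟩ := (hadj 2 p).1 (Cfsg.Agent.H988.DG.adj_iff.2 ⟨hp2.symm, Nat.prime_two, hp, h8⟩)
  obtain ⟨k, hk⟩ := hev
  rcases h9 with h9 | h9
  · have := h9.1
    omega
  · have := h9.1
    omega

/-- `q ≥ 16` a power of two: `q ^ 2 - 1` has at least three prime divisors -/
theorem three_le {q n : ℕ} (hn : q = 2 ^ n) (h16 : 16 ≤ q) :
    3 ≤ (q - 1).primeFactors.card + (q + 1).primeFactors.card := by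
  have hA : 1 ≤ (q - 1).primeFactors.card := Finset.card_pos.2 (Nat.nonempty_primeFactors.2 (by omega))
  have hB : 1 ≤ (q + 1).primeFactors.card := Finset.card_pos.2 (Nat.nonempty_primeFactors.2 (by omega))
  have h2 : ∀ m : ℕ, m ≠ 0 → 3 ∣ m → (∀ k, m ≠ 3 ^ k) → 2 ≤ m.primeFactors.card := by
    intro m hm h3 hk
    obtain ⟨s, hs, hs3, hsd⟩ := Cfsg.Agent.H714.Tri.exists_prime_ne hm hk
    have h4 : ({3, s} : Finset ℕ) ⊆ m.primeFactors := by
      intro x hx
      simp only [Finset.mem_insert, Finset.mem_singleton] at hx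
      rcases hx with rfl | rfl
      · exact Nat.mem_primeFactors.2 ⟨Nat.prime_three, h3, hm⟩
      · exact Nat.mem_primeFactors.2 ⟨hs, hsd, hm⟩
    have h5 := Finset.card_le_card h4
    rwa [Finset.card_pair hs3.symm] at h5
  have h3S : 3 ∣ q - 1 ∨ 3 ∣ q + 1 := by
    have h5 : ¬ 3 ∣ q := by
      rw [hn]
      intro h
      have := (Nat.prime_dvd_prime_iff_eq Nat.prime_three Nat.prime_two).1
        (Nat.prime_three.dvd_of_dvd_pow h)
      omega
    omega
  rcases h3S with h | h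
  · have := h2 (q - 1) (by omega) h (by
      intro k hk
      have h5 : 2 ^ n = 3 ^ k + 1 := by rw [← hn, ← hk]; omega
      have h6 := H967.EppoArith.two_pow_eq h5
      have h7 : (2 : ℕ) ^ n ≤ 2 ^ 2 := Nat.pow_le_pow_right (by norm_num) h6
      rw [← hn] at h7
      omega)
    omega
  · have := h2 (q + 1) (by omega) h (by
      intro k hk
      have h5 : 2 ^ n + 1 = 3 ^ k := by rw [← hn, ← hk]
      have h6 := H967.EppoArith.two_pow_add_one_eq h5
      have h7 : (2 : ℕ) ^ n ≤ 2 ^ 3 := Nat.pow_le_pow_right (by norm_num) h6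
      rw [← hn] at h7
      omega)
    omega

/-- `q ≥ 16` even -/
theorem l2_even {G : Type u} [Group G] [Finite G] (hEven : FactEven.{u}) (T : Fr G) {V : Finset ℕ} (c : Reg3 G V)
    (hev : Even (Fintype.card T.F)) (h16 : 16 ≤ Fintype.card T.F) : V.card ≤ 5 := by
  classical
  have hchar : CharP T.F 2 := by
    have h6 : ringChar T.F = 2 := FiniteField.even_card_iff_char_two.2 (Nat.even_iff.1 hev)
    rw [← h6]
    exact ringChar.charP T.F
  obtain ⟨n, -, hn⟩ := FiniteField.card T.F 2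
  obtain ⟨-, hadj⟩ := S4812.result T.F (Fintype.card T.F) rfl T.hF (Or.inl ⟨MulEquiv.refl _⟩)
  have hcard := SmallSimple.PSLTwoPart.card_psl_two_even (F := T.F) hev
  have hsq : Fintype.card T.F ^ 2 - 1 = (Fintype.card T.F + 1) * (Fintype.card T.F - 1) := by
    have := Nat.sq_sub_sq (Fintype.card T.F) 1
    rwa [one_pow] at this
  have h3 := three_le hn h16
  have hout : ∀ t : ℕ, t.Prime → t ∣ T.Kb.index → H33.IM (t * (Fintype.card T.F - 1)) G ∧
      H33.IM (t * (Fintype.card T.F + 1)) G := by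
    intro t ht htd
    obtain ⟨-, h1⟩ := H714.Tri.out T.Kb T.e T.hF T.cen ht htd
    obtain ⟨⟨d, ⟨χ, rfl⟩, hd⟩, h2⟩ := h1 hev
    obtain ⟨d', ⟨χ', rfl⟩, hd'⟩ := h2 (by omega)
    exact ⟨IM.of_quotient T.R ⟨χ, hd⟩, IM.of_quotient T.R ⟨χ', hd'⟩⟩
  have hupL : ∀ {a b : ℕ}, (degreeGraph T.L).Adj a b → (degreeGraph G).Adj a b := by
    intro a b h
    obtain ⟨h1, h2, h4, h5⟩ := Cfsg.Agent.H988.DG.adj_iff.1 h
    exact Cfsg.Agent.H988.DG.adj_iff.2 ⟨h1, h2, h4, T.im_of_L h5⟩
  have hLm : ∀ {x : ℕ}, x.Prime → x ∣ Nat.card T.L → x ∈ V := fun hx h =>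
    (c.hV _).2 (mem_dp_iff.2 ⟨hx, T.im_of_L (H664.R1.PSLTwo.im_psl T.hF hx h)⟩)
  have h2L : 2 ∣ Nat.card T.L := two_dvd_card_psl T.hF
  set q := Fintype.card T.F with hqd
  set A := (q - 1).primeFactors with hAd
  set B := (q + 1).primeFactors with hBd
  have hAm : ∀ x, x ∈ A ↔ x.Prime ∧ x ∣ q - 1 := by
    intro x
    rw [hAd, Nat.mem_primeFactors]
    exact ⟨fun h => ⟨h.1, h.2.1⟩, fun h => ⟨h.1, h.2, by omega⟩⟩
  have hBm : ∀ x, x ∈ B ↔ x.Prime ∧ x ∣ q + 1 := by
    intro x
    rw [hBd, Nat.mem_primeFactors]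
    exact ⟨fun h => ⟨h.1, h.2.1⟩, fun h => ⟨h.1, h.2, by omega⟩⟩
  have h2A : 2 ∉ A := by
    rw [hAm]
    rintro ⟨-, h⟩
    obtain ⟨k, hk⟩ := hev
    omega
  have h2B : 2 ∉ B := by
    rw [hBm]
    rintro ⟨-, h⟩
    obtain ⟨k, hk⟩ := hev
    omega
  have hAB : Disjoint A B := by
    rw [Finset.disjoint_left]
    intro x hx hx'
    obtain ⟨hxp, h5⟩ := (hAm x).1 hx
    obtain ⟨-, h6⟩ := (hBm x).1 hx'
    have h7 := Nat.dvd_sub h6 h5
    rw [show q + 1 - (q - 1) = 2 by omega, Nat.prime_dvd_prime_iff_eq hxp Nat.prime_two] at h7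
    exact h2A (h7 ▸ hx)
  have hABd : ∀ a ∈ A, ∀ b ∈ B, a ≠ b := fun a ha b hb h => Finset.disjoint_left.1 hAB ha (h ▸ hb)
  have hA : A.Nonempty := Nat.nonempty_primeFactors.2 (by omega)
  have hB : B.Nonempty := Nat.nonempty_primeFactors.2 (by omega)
  have clA : ∀ a ∈ A, ∀ b ∈ A, a ≠ b → (degreeGraph G).Adj a b := by
    intro a ha b hb hab
    obtain ⟨a1, a2⟩ := (hAm a).1 ha
    obtain ⟨b1, b2⟩ := (hAm b).1 hb
    exact hupL ((hadj a b).2 ⟨hab, a1, b1, Or.inr ⟨a2, b2⟩⟩)
  have clB : ∀ a ∈ B, ∀ b ∈ B, a ≠ b → (degreeGraph G).Adj a b := by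
    intro a ha b hb hab
    obtain ⟨a1, a2⟩ := (hBm a).1 ha
    obtain ⟨b1, b2⟩ := (hBm b).1 hb
    exact hupL ((hadj a b).2 ⟨hab, a1, b1, Or.inl ⟨a2, b2⟩⟩)
  -- primes of `|L|`
  have hL : ∀ x : ℕ, x.Prime → x ≠ 2 → x ∉ A → x ∉ B → ¬ x ∣ Nat.card T.L := by
    intro x hx hx2 hxA hxB h
    rw [hcard, hsq] at h
    rcases hx.dvd_mul.1 h with h | h
    · rw [hn] at h
      exact hx2 ((Nat.prime_dvd_prime_iff_eq hx Nat.prime_two).1 (hx.dvd_of_dvd_pow h))
    · rcases hx.dvd_mul.1 h with h | h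
      · exact hxB ((hBm x).2 ⟨hx, h⟩)
      · exact hxA ((hAm x).2 ⟨hx, h⟩)
  -- from a degree divisible by `t (q - 1)` and one divisible by `t (q + 1)`
  have hboth : ∀ t : ℕ, t.Prime → H33.IM (t * (q - 1)) G → H33.IM (t * (q + 1)) G →
      (∀ a ∈ A, a ≠ t → (degreeGraph G).Adj t a) ∧ ∀ b ∈ B, b ≠ t → (degreeGraph G).Adj t b := by
    intro t ht h1 h2
    constructor
    · intro a ha hat
      obtain ⟨a1, a2⟩ := (hAm a).1 ha
      exact im_adj hat.symm ht a1 h1 (Dvd.intro _ rfl) (a2.mul_left _)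
    · intro b hb hbt
      obtain ⟨b1, b2⟩ := (hBm b).1 hb
      exact im_adj hbt.symm ht b1 h2 (Dvd.intro _ rfl) (b2.mul_left _)
  have hks : Group.IsSolvable T.f.ker := by
    have := T.sol
    exact Group.isSolvable_of_surjective (f := T.kerEquiv.symm.toMonoidHom) T.kerEquiv.symm.surjective
  rcases resid T.f T.f_surj hks hev (by omega) with ⟨D, hDn, hcomm, hinf, hall, ⟨eD⟩⟩ | hcross
  · -- a direct product
    let sp : ℕ → Prop := fun t => t.Prime ∧ (H33.IM t T.R ∨ t ∣ T.Kb.index)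
    refine c.cub.evenB (hLm Nat.prime_two h2L) h2A h2B hAB h3 clA clB sp ?_ ?_ ?_
    · rintro t - ⟨ht, h⟩ x hx hxt
      obtain ⟨h5, h6⟩ : (∀ a ∈ A, a ≠ t → (degreeGraph G).Adj t a) ∧ ∀ b ∈ B, b ≠ t → (degreeGraph G).Adj t b := by
        rcases h with h | h
        · have hk : H33.IM t T.f.ker := h.of_equiv T.kerEquiv
          have imD : ∀ {z m : ℕ}, H33.IM z (Matrix.ProjectiveSpecialLinearGroup (Fin 2) T.F) → H33.IM (z * t) G := by
            intro z _ hz
            exact T.im_of_K (im_of_two D T.f.ker hcomm hinf ((IM.congr eD).2 hz) hk)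
          constructor
          · intro a ha hat
            obtain ⟨a1, a2⟩ := (hAm a).1 ha
            have haL : a ∣ Nat.card T.L := by
              rw [hcard, hsq]
              exact (a2.mul_left _).mul_left _
            exact im_adj hat.symm ht a1 (imD (m := 0) (H664.R1.PSLTwo.im_psl T.hF a1 haL)) (Dvd.intro_left _ rfl)
              (Dvd.intro _ rfl)
          · intro b hb hbt
            obtain ⟨b1, b2⟩ := (hBm b).1 hb
            have hbL : b ∣ Nat.card T.L := by
              rw [hcard, hsq]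
              exact (b2.mul_right _).mul_left _
            exact im_adj hbt.symm ht b1 (imD (m := 0) (H664.R1.PSLTwo.im_psl T.hF b1 hbL)) (Dvd.intro_left _ rfl)
              (Dvd.intro _ rfl)
        · obtain ⟨h5, h6⟩ := hout t ht h
          exact hboth t ht h5 h6
      rcases Finset.mem_union.1 hx with hx | hx
      · exact h5 x hx hxt
      · exact h6 x hx hxt
    · intro x hx hx2 hxA hxB
      have hxd := (c.hV x).1 hx
      rcases memR T hxd (hL x hxd.1 hx2 hxA hxB) with h | h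
      · exact ⟨hxd.1, Or.inr h⟩
      · exact ⟨hxd.1, Or.inl h⟩
    · intro p h2p
      obtain ⟨hp2, -, hp, χ, hχ⟩ := Cfsg.Agent.H988.DG.adj_iff.1 h2p
      have := Fintype.ofFinite G
      have := Fintype.ofFinite T.K
      by_cases i2 : 2 ∣ T.Kb.index
      · exact Or.inl ⟨Nat.prime_two, Or.inr i2⟩
      by_cases ip : p ∣ T.Kb.index
      · exact Or.inr ⟨hp, Or.inr ip⟩
      have hidx : T.Kb.index = T.K.index := by
        have h1 : T.Kb.comap (QuotientGroup.mk' T.R) = T.K := by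
          rw [Subgroup.comap_map_eq, QuotientGroup.ker_mk', sup_eq_left.2 T.le]
        rw [← Subgroup.index_comap_of_surjective _ (QuotientGroup.mk'_surjective T.R), h1]
      rw [hidx] at i2 ip
      obtain ⟨m, hm, hm'⟩ := isIrr_apply_one χ.2
      rw [H670.PSing.charDegree_eq_of hm'] at hχ
      obtain ⟨ψ, d, hψ, hψ1, -, hdn, hdi⟩ := exists_constituent T.K χ.2 hm'
      have h5 : m = d * (m / d) := (Nat.mul_div_cancel' hdn).symm
      have hcop : Nat.Coprime (2 * p) (m / d) := by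
        refine Nat.Coprime.mul_left ?_ ?_
        · exact (Nat.Prime.coprime_iff_not_dvd Nat.prime_two).2 fun h => i2 (h.trans hdi)
        · exact (Nat.Prime.coprime_iff_not_dvd hp).2 fun h => ip (h.trans hdi)
      have h6 : 2 * p ∣ d := by
        rw [h5] at hχ
        exact hcop.dvd_of_dvd_mul_right hχ
      have h7 : H33.IM (2 * p) T.K := IM.of_apply_one hψ hψ1 h6
      rcases prod_two eD hev T.hF hp hp2.symm ((IM.congr (prodEquiv D T.f.ker hcomm hinf hall)).2 h7) with h | h
      · exact Or.inl ⟨Nat.prime_two, Or.inl ((IM.congr T.kerEquiv).1 h)⟩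
      · exact Or.inr ⟨hp, Or.inl ((IM.congr T.kerEquiv).1 h)⟩
  · -- not a direct product
    refine c.cub.evenA h2A h2B hAB hA hB h3 clA clB ?_ ?_
    · intro x hx hx2 hxA hxB
      have hxd := (c.hV x).1 hx
      have hxp := hxd.1
      have hxL := hL x hxp hx2 hxA hxB
      have xA : ∀ a ∈ A, a ≠ x := fun a ha h => hxA (h ▸ ha)
      have xB : ∀ b ∈ B, b ≠ x := fun b hb h => hxB (h ▸ hb)
      rcases memR T hxd hxL with h | h
      · left
        obtain ⟨h5, h6⟩ := hout x hxp h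
        obtain ⟨h7, h8⟩ := hboth x hxp h5 h6
        exact ⟨fun a ha => h7 a ha (xA a ha), fun b hb => h8 b hb (xB b hb)⟩
      · have := Fintype.ofFinite T.K
        have := Fintype.ofFinite T.f.ker
        obtain ⟨θ, hθ⟩ : H33.IM x T.f.ker := h.of_equiv T.kerEquiv
        rcases hEven T.K T.f.ker T.F hev h16 (QuotientGroup.quotientKerEquivOfSurjective T.f T.f_surj) θ with
          ⟨χ, hχ⟩ | ⟨χ, -, d, hd, hd'⟩
        · -- the character extends
          left
          obtain ⟨dθ, hdθ, hdθ'⟩ := isIrr_apply_one θ.2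
          have hcθ := H670.PSing.charDegree_eq_of hdθ'
          have key : ∀ m : ℕ, H33.IM m T.L → H33.IM (x * m) G := by
            intro m hm
            obtain ⟨β, hβ⟩ := hm
            have hb : charDegree (β : T.L → ℂ) ∈ charDegrees (T.K ⧸ T.f.ker) :=
              charDegrees_comp (QuotientGroup.quotientKerEquivOfSurjective T.f T.f_surj : T.K ⧸ T.f.ker →* _)
                (QuotientGroup.quotientKerEquivOfSurjective T.f T.f_surj).surjective ⟨β, rfl⟩
            have hχM : IsIrrCharacter T.f.ker (fun k : T.f.ker => (χ : T.K → ℂ) k) := by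
              have h3 : (fun k : T.f.ker => (χ : T.K → ℂ) k) = (θ : T.f.ker → ℂ) := funext hχ
              rw [h3]
              exact θ.2
            have hχ1 : (χ : T.K → ℂ) 1 = dθ := by
              have := hχ 1
              rw [Subgroup.coe_one] at this
              rw [this, hdθ']
            obtain ⟨η, hη⟩ := gallagher (QuotientGroup.mk' T.f.ker) (QuotientGroup.mk'_surjective T.f.ker) T.f.ker
              (fun k hk => (QuotientGroup.eq_one_iff k).2 hk) χ.2 hχM hχ1 hb
            refine T.im_of_K ⟨η, ?_⟩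
            rw [hη, mul_comm]
            rw [hcθ] at hθ
            exact Nat.mul_dvd_mul hβ hθ
          constructor
          · intro a ha
            obtain ⟨a1, a2⟩ := (hAm a).1 ha
            have haL : a ∣ Nat.card T.L := by
              rw [hcard, hsq]
              exact (a2.mul_left _).mul_left _
            exact im_adj (xA a ha).symm hxp a1 (key a (H664.R1.PSLTwo.im_psl T.hF a1 haL)) (Dvd.intro _ rfl)
              (Dvd.intro_left _ rfl)
          · intro b hb
            obtain ⟨b1, b2⟩ := (hBm b).1 hb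
            have hbL : b ∣ Nat.card T.L := by
              rw [hcard, hsq]
              exact (b2.mul_right _).mul_left _
            exact im_adj (xB b hb).symm hxp b1 (key b (H664.R1.PSLTwo.im_psl T.hF b1 hbL)) (Dvd.intro _ rfl)
              (Dvd.intro_left _ rfl)
        · have hK : H33.IM (d * x) G := T.im_of_K ⟨χ, by rw [hd]; exact Nat.mul_dvd_mul_left d hθ⟩
          have xd : ∀ z : ℕ, z.Prime → z ≠ x → z ∣ d → (degreeGraph G).Adj x z := fun z hz hzx h =>
            im_adj hzx.symm hxp hz hK (Dvd.intro_left _ rfl) (h.mul_right _)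
          have dd : ∀ y z : ℕ, y.Prime → z.Prime → y ≠ z → y ∣ d → z ∣ d → (degreeGraph G).Adj y z :=
            fun y z hy hz hyz h h' => im_adj hyz hy hz hK (h.mul_right _) (h'.mul_right _)
          rcases hd' with h5 | h5 | h5 | ⟨a, b, ha, hb, had, hbd, h5⟩
          · left
            rw [hsq] at h5
            constructor
            · intro a ha
              obtain ⟨a1, a2⟩ := (hAm a).1 ha
              exact xd a a1 (xA a ha) ((a2.mul_left _).trans h5)
            · intro b hb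
              obtain ⟨b1, b2⟩ := (hBm b).1 hb
              exact xd b b1 (xB b hb) ((b2.mul_right _).trans h5)
          · right; left
            have h6 : 2 ∣ d := (Dvd.intro _ rfl).trans h5
            refine ⟨xd 2 Nat.prime_two hx2.symm h6, fun b hb => ?_⟩
            obtain ⟨b1, b2⟩ := (hBm b).1 hb
            have h7 : b ∣ d := (b2.mul_left _).trans h5
            exact ⟨xd b b1 (xB b hb) h7, dd 2 b Nat.prime_two b1 (by rintro rfl; exact h2B hb) h6 h7⟩
          · right; right; left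
            have h6 : 2 ∣ d := (Dvd.intro _ rfl).trans h5
            refine ⟨xd 2 Nat.prime_two hx2.symm h6, fun b hb => ?_⟩
            obtain ⟨b1, b2⟩ := (hAm b).1 hb
            have h7 : b ∣ d := (b2.mul_left _).trans h5
            exact ⟨xd b b1 (xA b hb) h7, dd 2 b Nat.prime_two b1 (by rintro rfl; exact h2A hb) h6 h7⟩
          · right; right; right
            have haA : a ∈ A := (hAm a).2 ⟨ha, had⟩
            have hbB : b ∈ B := (hBm b).2 ⟨hb, hbd⟩
            have h6 : 2 ∣ d := ((Dvd.intro _ rfl).trans (Dvd.intro _ rfl)).trans h5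
            have h7 : a ∣ d := ((Dvd.intro_left _ rfl).trans (Dvd.intro _ rfl)).trans h5
            have h8 : b ∣ d := (Dvd.intro_left _ rfl).trans h5
            exact ⟨a, haA, b, hbB, xd 2 Nat.prime_two hx2.symm h6, xd a ha (xA a haA) h7, xd b hb (xB b hbB) h8,
              dd 2 a Nat.prime_two ha (by rintro rfl; exact h2A haA) h6 h7,
              dd 2 b Nat.prime_two hb (by rintro rfl; exact h2B hbB) h6 h8, dd a b ha hb (hABd a haA b hbB) h7 h8⟩
    · rcases hcross with ⟨d, ⟨χ, rfl⟩, hd⟩ | ⟨x, hx, hxd, d, ⟨χ, rfl⟩, hd⟩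
      · left
        have h5 : H33.IM ((q + 1) * (q - 1)) G := T.im_of_K ⟨χ, by rwa [hsq] at hd⟩
        intro a ha b hb
        obtain ⟨a1, a2⟩ := (hAm a).1 ha
        obtain ⟨b1, b2⟩ := (hBm b).1 hb
        exact im_adj (hABd a ha b hb) a1 b1 h5 (a2.mul_left _) (b2.mul_right _)
      · right
        have h5 : H33.IM (2 * x * (q + 1)) G := T.im_of_K ⟨χ, hd⟩
        have hxA : x ∈ A := (hAm x).2 ⟨hx, hxd⟩
        have e2 : 2 ∣ 2 * x * (q + 1) := (Dvd.intro _ rfl).trans (Dvd.intro _ rfl)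
        have ex : x ∣ 2 * x * (q + 1) := (Dvd.intro_left _ rfl).trans (Dvd.intro _ rfl)
        refine ⟨x, hxA, im_adj (by rintro rfl; exact h2A hxA) Nat.prime_two hx h5 e2 ex, fun b hb => ?_⟩
        obtain ⟨b1, b2⟩ := (hBm b).1 hb
        have eb : b ∣ 2 * x * (q + 1) := b2.mul_left _
        exact ⟨im_adj (by rintro rfl; exact h2B hb) Nat.prime_two b1 h5 e2 eb,
          im_adj (hABd x hxA b hb) hx b1 h5 ex eb⟩

end Cfsg.Agent.H670.Reg
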