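import Cfsg.Agent.H670.Reg.Solv
import Cfsg.Agent.H670.Reg.L2
import Cfsg.Agent.H248.Reg.Even

/-!
# 3-regular degree graphs (S4919) from the facts on simple groups (helper670)
-/

set_option autoImplicit false

namespace Cfsg.Agent.H670.Reg

open Cfsg

universe u

theorem main (Fa : SFacts.{u}) (hOdd : FactOdd.{u}) {G : Type u} [Group G] [Finite G]
    (hne : (Cfsg.degreePrimes G).Nonempty) :
    (∀ p ∈ Cfsg.degreePrimes G, Set.ncard {q : ℕ | (Cfsg.degreeGraph G).Adj p q} = 3) ↔
      (Set.ncard (Cfsg.degreePrimes G) = 4 ∧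
        ∀ p ∈ Cfsg.degreePrimes G, ∀ q ∈ Cfsg.degreePrimes G, p ≠ q → (Cfsg.degreeGraph G).Adj p q) := by
  classical
  obtain ⟨V, hV⟩ := H988.DG.exists_finset G
  have hVm : ∀ p, p ∈ V ↔ p ∈ degreePrimes G := by
    intro p
    rw [← hV, Finset.mem_coe]
  constructor
  · intro h
    have c : Reg3 G V := Reg3.mk' hV h
    have h5 : V.card ≤ 5 := by
      by_cases hG : Group.IsSolvable G
      · exact solvable_case hG c
      · exact nonsolv Fa hOdd H248.Reg.factEven hG c
    obtain ⟨x, hx⟩ := hne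
    have h4 : 4 ≤ V.card := c.cub.four_le ⟨x, (hVm x).2 hx⟩
    have hev := c.cub.even
    have h44 : V.card = 4 := by
      obtain ⟨k, hk⟩ := hev
      omega
    refine ⟨by rw [← hV, Set.ncard_coe_finset, h44], fun p hp q hq hpq => ?_⟩
    exact c.cub.complete h44 ((hVm p).2 hp) ((hVm q).2 hq) hpq
  · rintro ⟨h4, hall⟩ p hp
    have h1 : {q : ℕ | (degreeGraph G).Adj p q} = ((V.erase p : Finset ℕ) : Set ℕ) := by
      ext q
      rw [Set.mem_ofPred_eq, Finset.mem_coe, Finset.mem_erase, hVm]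
      constructor
      · intro h
        exact ⟨h.ne.symm, mem_of_adj h.symm⟩
      · rintro ⟨h2, h3⟩
        exact hall p hp q h3 h2.symm
    rw [h1, Set.ncard_coe_finset, Finset.card_erase_of_mem ((hVm p).2 hp)]
    rw [← hV, Set.ncard_coe_finset] at h4
    omega

end Cfsg.Agent.H670.Reg
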