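import Cfsg.Agent.H670.Reg.Main

/-!
# 3-regular degree graphs (S4919): a second version of the reduction (helper670)

* `SFacts2` : as `SFacts`, but a simple group with a vertex with four neighbours needs no further facts;
* `red2`, `nonsolv2`, `main2` : the reduction and the theorem from `SFacts2`.
-/

set_option autoImplicit false

namespace Cfsg.Agent.H670.Reg

open Cfsg Subgroup Cfsg.Agent.H33 Cfsg.Agent.H671.H5 Cfsg.Agent.H681.DegBasic Cfsg.Agent.H671.Link
  Cfsg.Agent.H459.Rad Cfsg.Agent.H988.DG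

universe u v

/-- A vertex with four neighbours. -/
def FourN (S : Type v) [Group S] : Prop :=
  ∃ u a b c d : ℕ, a ≠ b ∧ a ≠ c ∧ a ≠ d ∧ b ≠ c ∧ b ≠ d ∧ c ≠ d ∧ Adj u a S ∧ Adj u b S ∧ Adj u c S ∧ Adj u d S

/-- The facts on simple groups. -/
structure SFacts2 : Prop where
  ev : ∀ (S : Type) [Group S] [Finite S] [IsSimpleGroup S], ¬ IsMulCommutative S → 2 ∣ Nat.card S
  ext : FactExt.{0}
  im : FactIM.{0}
  tri : FactTri.{0}
  ind : ∀ (S : Type) [Group S] [Finite S] [IsSimpleGroup S], ¬ IsMulCommutative S → ¬ IsL2 S → FourN S ∨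
    ∀ p ∈ degreePrimes S, ∀ q ∈ degreePrimes S, ∀ r ∈ degreePrimes S,
      p ≠ q → q ≠ r → p ≠ r → Adj p q S ∨ Adj q r S ∨ Adj p r S
  conn : FactConn.{0}
  kite5 : FactKiteBig.{0}
  kite4 : FactKiteFour.{u, 0}

/-- **The reduction.** -/
theorem red2 (Fa : SFacts2.{u}) (hl2 : ∀ (G : Type u) [Group G] [Finite G] (_ : Fr G) (V : Finset ℕ), Reg3 G V → V.card ≤ 5)
    {G : Type u} [Group G] [Finite G] (hG : ¬ Group.IsSolvable G) {V : Finset ℕ} (c : Reg3 G V) : V.card ≤ 5 := by
  classical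
  have hRn : (solvableRadical G).Normal := rad_normal G
  set R := solvableRadical G with hR
  have hrad : solvableRadical (G ⧸ R) = ⊥ := rad_quotient
  have hnc : ∀ N : Subgroup (G ⧸ R), N.Normal → Group.IsSolvable N → N = ⊥ := by
    intro N hN hs
    rw [eq_bot_iff, ← hrad]
    exact le_rad hN hs
  have hmain : ∀ N : Subgroup (G ⧸ R), N.Normal → N ≠ ⊥ → ∃ L : Subgroup (G ⧸ R), ∃ _ : L.Normal, L ≤ N ∧ L ≠ ⊥ ∧
      ∃ (S : Type) (_ : Group S) (_ : IsSimpleGroup S) (_ : Finite S) (k : ℕ), 1 ≤ k ∧ ¬ IsMulCommutative S ∧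
        Nonempty (L ≃* (Fin k → S)) := by
    intro N hN hNb
    obtain ⟨L, hL, hLN, hLb, hmin⟩ := H671.Frame.exists_minNormal hN hNb
    have hna : ¬ IsMulCommutative L := fun h => hLb (hnc L hL (Group.isSolvable_of_comm fun a b => h.is_comm.comm a b))
    obtain ⟨S, iS, iS', k, hk, hS, ⟨e⟩⟩ := H671.Frame.minNormal_pi hL hLb hmin hna
    have hfS : Finite S := by
      have : Finite (Fin k → S) := Finite.of_equiv _ e.toEquiv
      have h0 : Fin k := ⟨0, hk⟩
      exact Finite.of_surjective (fun f : Fin k → S => f h0) fun s => ⟨fun _ => s, rfl⟩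
    exact ⟨L, hL, hLN, hLb, S, iS, iS', hfS, k, hk, hS, ⟨e⟩⟩
  have hnt : (⊤ : Subgroup (G ⧸ R)) ≠ ⊥ := by
    intro h
    apply hG
    rw [← rad_eq_top_iff]
    have h1 : Subsingleton (G ⧸ R) := by
      rw [← Subgroup.subsingleton_iff]
      exact subsingleton_of_bot_eq_top h.symm
    exact QuotientGroup.subgroup_eq_top_of_subsingleton _ h1
  obtain ⟨L, hL, -, hLb, S, iS, iS', hfS, k, hk, hna, ⟨e⟩⟩ := hmain ⊤ inferInstance hnt
  set P : Finset ℕ := (Nat.card S).primeFactors with hPdef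
  have hPm : ∀ p, p ∈ P ↔ p.Prime ∧ p ∣ Nat.card S := fun p => by
    rw [hPdef, Nat.mem_primeFactors]
    exact ⟨fun h => ⟨h.1, h.2.1⟩, fun h => ⟨h.1, h.2, Nat.card_pos.ne'⟩⟩
  have hP3 : 3 ≤ P.card := three_le_primes hna
  obtain ⟨O1, O2⟩ := rules Fa.ext c R L hna hk e (P := P) fun p hp hd => (hPm p).2 ⟨hp, hd⟩
  have hup : ∀ {n : ℕ}, H33.IM n L → H33.IM n G := fun h => (h.of_normal L).of_quotient R
  by_cases hk2 : 2 ≤ k
  · -- several factors
    refine (c.cub.clique O1 O2 hP3 fun a ha b hb hab => ?_).trans (by norm_num)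
    obtain ⟨hap, haS⟩ := (hPm a).1 ha
    obtain ⟨hbp, hbS⟩ := (hPm b).1 hb
    obtain ⟨χ, hχ⟩ := Fa.im S hna a hap haS
    obtain ⟨ψ, hψ⟩ := Fa.im S hna b hbp hbS
    have hij : (⟨0, by omega⟩ : Fin k) ≠ ⟨1, by omega⟩ := by
      intro h
      have h5 := congrArg Fin.val h
      exact absurd h5 (by norm_num)
    obtain ⟨ξ, hξ⟩ := H671.Link.pi_mul hij (a := charDegree (χ : S → ℂ)) (b := charDegree (ψ : S → ℂ)) ⟨χ, rfl⟩ ⟨ψ, rfl⟩
    have h1 : H33.IM (a * b) (Fin k → S) := ⟨ξ, by rw [hξ]; exact Nat.mul_dvd_mul hχ hψ⟩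
    exact Cfsg.Agent.H988.DG.adj_iff.2 ⟨hab, hap, hbp, hup ((IM.congr e).2 h1)⟩
  have hk1 : k = 1 := by omega
  subst hk1
  have e' : L ≃* S := e.trans (MulEquiv.funUnique (Fin 1) S)
  by_cases hC : Subgroup.centralizer (L : Set (G ⧸ R)) = ⊥
  swap
  · -- two minimal normal subgroups
    obtain ⟨M, hM, hMC, hMb, S2, iS2, iS2', hfS2, k2, hk2, hna2, ⟨e2⟩⟩ := hmain _ inferInstance hC
    have hcomm : ∀ a ∈ L, ∀ b ∈ M, a * b = b * a := fun a ha b hb => Subgroup.mem_centralizer_iff.1 (hMC hb) a ha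
    have hint : L ⊓ M = ⊥ := by
      refine hnc _ inferInstance (Group.isSolvable_of_comm fun a b => Subtype.ext ?_)
      exact hcomm _ a.2.1 _ b.2.2
    set P2 : Finset ℕ := (Nat.card S2).primeFactors with hP2def
    have hPm2 : ∀ p, p ∈ P2 ↔ p.Prime ∧ p ∣ Nat.card S2 := fun p => by
      rw [hP2def, Nat.mem_primeFactors]
      exact ⟨fun h => ⟨h.1, h.2.1⟩, fun h => ⟨h.1, h.2, Nat.card_pos.ne'⟩⟩
    have hP23 : 3 ≤ P2.card := three_le_primes hna2
    have hx : ∀ a ∈ P, ∀ b ∈ P2, a ≠ b → (degreeGraph G).Adj a b := by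
      intro a ha b hb hab
      obtain ⟨hap, haS⟩ := (hPm a).1 ha
      obtain ⟨hbp, hbS⟩ := (hPm2 b).1 hb
      have h1 : H33.IM a L := (IM.congr e').2 (Fa.im S hna a hap haS)
      have h2 : H33.IM b M := by
        refine (IM.congr e2).2 ?_
        obtain ⟨ψ, hψ⟩ := Fa.im S2 hna2 b hbp hbS
        obtain ⟨ξ, hξ⟩ := H671.Link.pi_one (⟨0, hk2⟩ : Fin k2) (a := charDegree (ψ : S2 → ℂ)) ⟨ψ, rfl⟩
        exact ⟨ξ, by rw [hξ]; exact hψ⟩
      exact Cfsg.Agent.H988.DG.adj_iff.2 ⟨hab, hap, hbp, (im_of_two L M hcomm hint h1 h2).of_quotient R⟩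
    obtain ⟨O1', O2'⟩ := rules Fa.ext c R L hna hk e (P := P ∪ P2) fun p hp hd =>
      Finset.mem_union_left _ ((hPm p).2 ⟨hp, hd⟩)
    have h2 : 2 ∈ P := (hPm 2).2 ⟨Nat.prime_two, Fa.ev S hna⟩
    have h22 : 2 ∈ P2 := (hPm2 2).2 ⟨Nat.prime_two, Fa.ev S2 hna2⟩
    have hc4 : (P ∪ P2).card ≤ 4 := by
      have h3 := c.cub.le3 (v := 2) ((P ∪ P2).erase 2) (fun z hz => by
        rw [Finset.mem_erase, Finset.mem_union] at hz
        rcases hz with ⟨hz, hz' | hz'⟩
        · exact (hx z hz' 2 h22 hz).symm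
        · exact hx 2 h2 z hz' hz.symm)
      rw [Finset.card_erase_of_mem (Finset.mem_union_left _ h2)] at h3
      omega
    have hone : ∀ (A B : Finset ℕ), 3 ≤ B.card → (A ∪ B).card ≤ 4 → ∀ a ∈ A, ∀ b ∈ A, a ∉ B → b ∉ B → a = b := by
      intro A B hB hAB a ha b hb haB hbB
      by_contra hne
      have h3 : (insert a (insert b B)).card = B.card + 2 := by
        rw [Finset.card_insert_of_notMem, Finset.card_insert_of_notMem hbB]
        rw [Finset.mem_insert]
        rintro (h4 | h4)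
        · exact hne h4
        · exact haB h4
      have h4 : insert a (insert b B) ⊆ A ∪ B := by
        intro z hz
        rw [Finset.mem_insert, Finset.mem_insert] at hz
        rcases hz with rfl | rfl | hz
        · exact Finset.mem_union_left _ ha
        · exact Finset.mem_union_left _ hb
        · exact Finset.mem_union_right _ hz
      have h5 := Finset.card_le_card h4
      omega
    refine (c.cub.clique O1' O2' (hP3.trans (Finset.card_le_card Finset.subset_union_left)) fun a ha b hb hab => ?_).trans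
      (by norm_num)
    rw [Finset.mem_union] at ha hb
    by_cases ha1 : a ∈ P
    · by_cases hb2 : b ∈ P2
      · exact hx a ha1 b hb2 hab
      · have hb1 := hb.resolve_right hb2
        by_cases ha2 : a ∈ P2
        · exact (hx b hb1 a ha2 hab.symm).symm
        · exact absurd (hone P P2 hP23 hc4 a ha1 b hb1 ha2 hb2) hab
    · have ha2 := ha.resolve_left ha1
      by_cases hb1 : b ∈ P
      · exact (hx b hb1 a ha2 hab.symm).symm
      · exact absurd (hone P2 P hP3 (by rwa [Finset.union_comm]) a ha2 b (hb.resolve_left hb1) ha1 hb1) hab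
  by_cases hS : IsL2 S
  · -- `PSL(2,q)`
    obtain ⟨F, iF, iF', hF, ⟨e3⟩⟩ := hS
    have hmap : (L.comap (QuotientGroup.mk' R)).map (QuotientGroup.mk' R) = L :=
      Subgroup.map_comap_eq_self_of_surjective (QuotientGroup.mk'_surjective R) L
    refine hl2 G ⟨R, L.comap (QuotientGroup.mk' R), hRn, inferInstance, ?_, (rad_spec G).2.1, ?_, F, iF, iF', hF,
      (MulEquiv.subgroupCongr hmap).trans (e'.trans e3), ?_⟩ V c
    · have := Subgroup.ker_le_comap (QuotientGroup.mk' R) L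
      rwa [QuotientGroup.ker_mk'] at this
    · intro N hN hs
      exact le_rad hN hs
    · rw [hmap]
      exact hC
  -- other simple groups
  have hPd : ∀ p, p ∈ P ↔ p ∈ degreePrimes S := by
    intro p
    rw [hPm]
    constructor
    · rintro ⟨hp, hd⟩
      exact mem_dp_iff.2 ⟨hp, Fa.im S hna p hp hd⟩
    · intro h
      exact ⟨h.1, Cfsg.Agent.H671.Comp.dvd_card_of_mem h⟩
  have hAdj : ∀ {a b : ℕ}, Adj a b S → (degreeGraph G).Adj a b := by
    intro a b h
    obtain ⟨h5, h6, h7, h8⟩ := Cfsg.Agent.H988.DG.adj_iff.1 h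
    exact Cfsg.Agent.H988.DG.adj_iff.2 ⟨h5, h6, h7, hup ((IM.congr e').2 h8)⟩
  have hPV : P ⊆ V := by
    intro p hp
    obtain ⟨hp', hpS⟩ := (hPm p).1 hp
    exact (c.hV p).2 (mem_dp_iff.2 ⟨hp', hup ((IM.congr e').2 (Fa.im S hna p hp' hpS))⟩)
  rcases Fa.ind S hna hS with hF | hind
  · obtain ⟨x, a, b, d, f, hab, had, haf, hbd, hbf, hdf, h1, h2, h3, h4⟩ := hF
    exact (c.cub.four (hAdj h1) (hAdj h2) (hAdj h3) (hAdj h4) hab had hbd haf hbf hdf).elim
  have hI : ∀ a ∈ P, ∀ b ∈ P, ∀ d ∈ P, a ≠ b → b ≠ d → a ≠ d →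
      (degreeGraph G).Adj a b ∨ (degreeGraph G).Adj b d ∨ (degreeGraph G).Adj a d := by
    intro a ha b hb d hd hab hbd had
    rcases hind a ((hPd a).1 ha) b ((hPd b).1 hb) d ((hPd d).1 hd) hab hbd had with h | h | h
    · exact Or.inl (hAdj h)
    · exact Or.inr (Or.inl (hAdj h))
    · exact Or.inr (Or.inr (hAdj h))
  have hCo : ∀ Q ⊆ P, Q.Nonempty → Q ≠ P → ∃ a ∈ Q, ∃ b ∈ P, b ∉ Q ∧ (degreeGraph G).Adj a b := by
    intro Q hQP hQn hQ
    obtain ⟨a, ha, b, hb, hbQ, hab⟩ := cross_edge (Fa.conn S hna hS) hPd hQP hQn hQ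
    exact ⟨a, ha, b, hb, hbQ, hAdj hab⟩
  have hmemS : ∀ {a b : ℕ}, Adj a b S → a ∈ P := fun h => (hPd _).2 (mem_of_adj h)
  have hkite : Kite S → V.card ≤ 5 := by
    rintro (⟨x, y, w, z, hwz, h1, h2, h3, h4, h5⟩ | ⟨x, a, b, d, f, hab, had, haf, hbd, hbf, hdf, h1, h2, h3, h4⟩)
    · exact (c.cub.kite O1 O2 hI hCo (hmemS h1) (hmemS h3) (hmemS h2.symm) (hmemS h4.symm) hwz (hAdj h1) (hAdj h2)
        (hAdj h3) (hAdj h4) (hAdj h5)).trans (by norm_num)
    · exact (c.cub.four (hAdj h1) (hAdj h2) (hAdj h3) (hAdj h4) hab had hbd haf hbf hdf).elim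
  have h6 : P.card ≤ 6 := c.cub.big hPV hI hCo
  rcases Nat.lt_or_ge 4 P.card with h5 | h5
  · exact hkite (Fa.kite5 S hna hS (by rw [← hPdef]; omega) (by rw [← hPdef]; omega))
  rcases Nat.lt_or_ge 3 P.card with h4 | h4
  · rcases Fa.kite4 S hna hS (by rw [← hPdef]; omega) with h7 | ⟨a, b, d, r, har, hbr, hdr, hab, had, hbd, harr, hit, ohit⟩
    · exact hkite h7
    · by_contra h8
      push Not at h8
      have hle := Finset.card_le_card_sdiff_add_card (s := V) (t := P)
      obtain ⟨x, hx, y, hy, hxy⟩ := Finset.one_lt_card.1 (show 1 < (V \ P).card by omega)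
      rw [Finset.mem_sdiff] at hx hy
      have g1 := hAdj hab
      have g2 := hAdj had
      have g3 := hAdj hbd
      have g4 := hAdj harr
      have key : ∀ z ∈ V, z ∉ P → (degreeGraph G).Adj z b := by
        intro z hz hzP
        obtain ⟨hzp, -⟩ := (c.hV z).1 hz
        have hzS : ¬ z ∣ Nat.card S := fun h => hzP ((hPm z).2 ⟨hzp, h⟩)
        have hin : ∀ t ∈ ({a, b} : Set ℕ), t.Prime ∧ t ∣ Nat.card S := by
          intro t ht
          rcases ht with rfl | ht
          · exact (hPm _).1 (hmemS hab)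
          · rw [Set.mem_singleton_iff.1 ht]
            exact (hPm _).1 (hmemS hbd)
        obtain ⟨t, ht, hadj⟩ := hit_adj R L e' hC (fun t ht => (hin t ht).1) hit ohit ((c.hV z).1 hz) hzS
          (fun t ht => (hin t ht).2)
        rcases ht with rfl | ht
        · exfalso
          have hz1 : b ≠ z := by rintro rfl; exact hzP (hmemS hbd)
          have hz2 : d ≠ z := by rintro rfl; exact hzP (hmemS hbd.symm)
          have hz3 : r ≠ z := by rintro rfl; exact hzP (hmemS harr.symm)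
          exact c.cub.four g1 g2 g4 hadj.symm g3.ne hbr hdr hz1 hz2 hz3
        · rw [Set.mem_singleton_iff.1 ht] at hadj
          exact hadj
      have ea : ∀ z, z ∉ P → a ≠ z := by rintro z hz rfl; exact hz (hmemS hab)
      have ed : ∀ z, z ∉ P → d ≠ z := by rintro z hz rfl; exact hz (hmemS hbd.symm)
      exact c.cub.four g1.symm g3 (key x hx.1 hx.2).symm (key y hy.1 hy.2).symm g2.ne (ea x hx.2) (ed x hx.2)
        (ea y hy.2) (ed y hy.2) hxy
  · -- three primes
    obtain ⟨a, b, d, hab, hbd, had⟩ := Fa.tri S hna hS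
    have hPe : P = {a, b, d} := by
      symm
      apply Finset.eq_of_subset_of_card_le
      · intro z hz
        simp only [Finset.mem_insert, Finset.mem_singleton] at hz
        rcases hz with rfl | rfl | rfl
        · exact hmemS hab
        · exact hmemS hbd
        · exact hmemS hbd.symm
      · rw [Finset.card_insert_of_notMem, Finset.card_insert_of_notMem, Finset.card_singleton]
        · exact h4
        · simpa using hbd.ne
        · simp only [Finset.mem_insert, Finset.mem_singleton]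
          rintro (h7 | h7)
          · exact hab.ne h7
          · exact had.ne h7
    refine (c.cub.clique O1 O2 hP3 fun x hx y hy hxy => ?_).trans (by norm_num)
    rw [hPe] at hx hy
    simp only [Finset.mem_insert, Finset.mem_singleton] at hx hy
    rcases hx with rfl | rfl | rfl <;> rcases hy with rfl | rfl | rfl
    · exact absurd rfl hxy
    · exact hAdj hab
    · exact hAdj had
    · exact (hAdj hab).symm
    · exact absurd rfl hxy
    · exact hAdj hbd
    · exact (hAdj had).symm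
    · exact (hAdj hbd).symm
    · exact absurd rfl hxy

/-- **The non-solvable case.** -/
theorem nonsolv2 (Fa : SFacts2.{u}) (hOdd : FactOdd.{u}) (hEven : FactEven.{u}) {G : Type u} [Group G] [Finite G]
    (hG : ¬ Group.IsSolvable G) {V : Finset ℕ} (c : Reg3 G V) : V.card ≤ 5 :=
  red2 Fa (fun G _ _ T V c => l2 hOdd hEven G T V c) hG c

theorem main2 (Fa : SFacts2.{u}) (hOdd : FactOdd.{u}) {G : Type u} [Group G] [Finite G]
    (hne : (Cfsg.degreePrimes G).Nonempty) :
    (∀ p ∈ Cfsg.degreePrimes G, Set.ncard {q : ℕ | (Cfsg.degreeGraph G).Adj p q} = 3) ↔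
      (Set.ncard (Cfsg.degreePrimes G) = 4 ∧
        ∀ p ∈ Cfsg.degreePrimes G, ∀ q ∈ Cfsg.degreePrimes G, p ≠ q → (Cfsg.degreeGraph G).Adj p q) := by
  classical
  obtain ⟨V, hV⟩ := H988.DG.exists_finset G
  have hVm : ∀ p, p ∈ V ↔ p ∈ degreePrimes G := by
    intro p
    rw [← hV, Finset.mem_coe]
  constructor
  · intro h
    have c : Reg3 G V := Reg3.mk' hV h
    have h5 : V.card ≤ 5 := by
      by_cases hG : Group.IsSolvable G
      · exact solvable_case hG c
      · exact nonsolv2 Fa hOdd H248.Reg.factEven hG c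
    obtain ⟨x, hx⟩ := hne
    have h4 : 4 ≤ V.card := c.cub.four_le ⟨x, (hVm x).2 hx⟩
    have hev := c.cub.even
    have h44 : V.card = 4 := by
      obtain ⟨k, hk⟩ := hev
      omega
    refine ⟨by rw [← hV, Set.ncard_coe_finset, h44], fun p hp q hq hpq => ?_⟩
    exact c.cub.complete h44 ((hVm p).2 hp) ((hVm q).2 hq) hpq
  · rintro ⟨h4, hall⟩ p hp
    have h1 : {q : ℕ | (degreeGraph G).Adj p q} = ((V.erase p : Finset ℕ) : Set ℕ) := by
      ext q
      rw [Set.mem_ofPred_eq, Finset.mem_coe, Finset.mem_erase, hVm]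
      constructor
      · intro h
        exact ⟨h.ne.symm, mem_of_adj h.symm⟩
      · rintro ⟨h2, h3⟩
        exact hall p hp q h3 h2.symm
    rw [h1, Set.ncard_coe_finset, Finset.card_erase_of_mem ((hVm p).2 hp)]
    rw [← hV, Set.ncard_coe_finset] at h4
    omega

end Cfsg.Agent.H670.Reg
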