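import Cfsg.Agent.H670.Reg.CombS
import Cfsg.Agent.H670.Reg.Red
import Cfsg.Agent.H377.DegSolv.Two
import Cfsg.Agent.H734.Prism.Full
import Cfsg.Agent.H748.PalfyFinal
import Cfsg.Agent.H670.Palfy.SL
import Cfsg.Agent.H849.FactNum
import Cfsg.Agent.H415.Palfy.T1
import Cfsg.Agent.H55.Palfy.Main
import Cfsg.Agent.H161.PalFb

/-!
# 3-regular degree graphs (S4919): solvable groups (helper670)
-/

set_option autoImplicit false

namespace Cfsg.Agent.H670.Reg

open Cfsg

universe u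

/-- **The solvable case.** -/
theorem solvable_case {G : Type u} [Group G] [Finite G] (hG : Group.IsSolvable G) {V : Finset ℕ} (c : Reg3 G V) :
    V.card ≤ 5 := by
  have na : ∀ {a b : ℕ}, a ≠ b → a ∈ V → b ∈ V → ¬ (degreeGraph G).Adj a b → Cfsg.Agent.H670.Palfy.NA a b G := by
    intro a b hab ha hb h e he h1 h2
    exact h (adj_of he ((c.hV a).1 ha).1 ((c.hV b).1 hb).1 hab h1 h2)
  have hrho : ∀ p, p ∈ V ↔ p.Prime ∧ Cfsg.Agent.H670.Palfy.Rho p G := by
    intro p
    rw [c.hV]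
    exact Iff.rfl
  rcases c.cub.solv (fun a ha b hb d hd hab hbd had => H748.Palfy.palfy hG ((c.hV a).1 ha) ((c.hV b).1 hb)
    ((c.hV d).1 hd) hab hbd had) with h | ⟨a, hinj, hr, hn⟩ | ⟨A, B, hA, hB, hd, hu, hn⟩
  · exact h
  · exfalso
    refine H734.Prism.noPrism_of Cfsg.Agent.H670.Palfy.factSL H415.Palfy.factT1 H415.Palfy.factT2pre H55.T2a.factT2a
      H161.PalFb.factT2b G hG a hinj (fun p => by rw [hr, hrho]) fun i => ?_
    have hne : a i ≠ a (i + 1) := by
      intro h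
      have h1 := hinj h
      have h2 : ∀ i : Fin 6, i ≠ i + 1 := by decide
      exact h2 i h1
    exact na hne ((hr _).1 ⟨i, rfl⟩) ((hr _).1 ⟨i + 1, rfl⟩) (hn i)
  · exfalso
    refine H377.DegSolv.noTwo Cfsg.Agent.H670.Palfy.factSL H849.FactNum.factNum H415.Palfy.factT1 H415.Palfy.factT2pre
      H55.T2a.factT2a H161.PalFb.factT2b G hG A B (by rw [hA, hB]) (by omega) hd (fun p => by rw [hu, hrho]) ?_
    intro x hx y hy
    refine na ?_ ?_ ?_ (hn x hx y hy)
    · rintro rfl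
      exact Finset.disjoint_left.1 hd hx hy
    · rw [← hu]; exact Finset.mem_union_left _ hx
    · rw [← hu]; exact Finset.mem_union_right _ hy

end Cfsg.Agent.H670.Reg
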